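import Mathlib
import Cfsg.Agent.Lib.CT.Recog
import Cfsg.Agent.Lib.ClSys.Omega
import Cfsg.Agent.Lib.EG.Types
import Cfsg.Agent.Lib.FiLoc.O8

/-! Recognition of `Ω⁺(8,2)` from root elements and Weyl elements (Curtis–Tits over `F₂`). -/

set_option autoImplicit false
set_option linter.unusedSimpArgs false

namespace CfsgLib.O8R

open CfsgLib.RGD CfsgLib.ClSys CfsgLib.CT

variable {G : Type*} [Group G]

/-- the one parameter subgroup of an involution -/
def op (y : G) (t : ZMod 2) : G := if t = 0 then 1 else y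

theorem op_zero (y : G) : op y 0 = 1 := rfl

theorem op_one (y : G) : op y 1 = y := rfl

theorem z2 (t : ZMod 2) : t = 0 ∨ t = 1 := by revert t; decide

theorem op_commute {x y : G} (h : Commute x y) (t u : ZMod 2) : Commute (op x t) (op y u) := by
  rcases z2 t with rfl | rfl <;> rcases z2 u with rfl | rfl <;> simp [op_zero, op_one, h]

theorem relA_two {a n m : G} (ha : a * a = 1) (hn : n * n = 1) (hm : m * m = 1)
    (h3 : m * n * m = n * m * n) {c u : G} (hu : u = m * a * m) (hc : c = n * u * n)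
    (h1 : a * c * a⁻¹ * c⁻¹ = u) (h2 : Commute a u) (h4 : Commute u c) :
    ∃ x : OffD 3 → ZMod 2 → G, RelA x ∧ x (o3 0 1) = op a ∧ x (o3 1 0) = op (n * a * n) ∧
      x (o3 1 2) = op c ∧ x (o3 2 1) = op (m * c * m) := by
  have ni : n⁻¹ = n := inv_eq_of_mul_eq_one_right hn
  have mi : m⁻¹ = m := inv_eq_of_mul_eq_one_right hm
  have nn : ∀ x, n * (n * x) = x := fun x => by rw [← mul_assoc, hn, one_mul]
  have mm : ∀ x, m * (m * x) = x := fun x => by rw [← mul_assoc, hm, one_mul]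
  have br : ∀ x, m * (n * (m * x)) = n * (m * (n * x)) := fun x => by
    simp only [← mul_assoc, h3]
  have br' : m * (n * m) = n * (m * n) := by simp only [← mul_assoc, h3]
  let y : Fin 3 → Fin 3 → G := ![![1, a, u], ![n * a * n, 1, c], ![m * (n * a * n) * m, m * c * m, 1]]
  let P : Fin 3 → Fin 3 → Fin 3 → Prop := fun i j k => ∃ w : G, w * a * w⁻¹ = y i j ∧
    w * u * w⁻¹ = y i k ∧ w * c * w⁻¹ = y j k ∧ w * (m * c * m) * w⁻¹ = y k j
  have k : ∀ i j k, i ≠ j → i ≠ k → j ≠ k → P i j k := by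
    have p1 : P 0 1 2 := ⟨1, by simp [y]⟩
    have p2 : P 1 0 2 := ⟨n, by simp [y, hc, hu, ni, mul_assoc, nn, mm, hn, br, br']⟩
    have p3 : P 0 2 1 := ⟨m, by simp [y, hc, hu, mi, mul_assoc, nn, mm, hm, br, br']⟩
    have p4 : P 1 2 0 := ⟨n * m, by simp [y, hc, hu, ni, mi, mul_assoc, nn, mm, hm, hn, br, br']⟩
    have p5 : P 2 0 1 := ⟨m * n, by simp [y, hc, hu, ni, mi, mul_assoc, nn, mm, hm, hn, br, br']⟩
    have p6 : P 2 1 0 := ⟨n * m * n, by simp [y, hc, hu, ni, mi, mul_assoc, nn, mm, hm, hn, br, br']⟩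
    intro i j k
    fin_cases i <;> fin_cases j <;> fin_cases k <;> simp [p1, p2, p3, p4, p5, p6]
  have h5 : Commute a (m * c * m) := by
    have := h4.conj m
    rwa [hu, mi, show m * (m * a * m) * m = a by simp [mul_assoc, mm, hm]] at this
  have third : ∀ i j : Fin 3, i ≠ j → ∃ k, i ≠ k ∧ j ≠ k := by decide
  refine ⟨fun r => op (y r.1.1 r.1.2), ⟨?_, ?_, ?_⟩, rfl, rfl, rfl, rfl⟩
  · rintro ⟨⟨i, j⟩, hij⟩ t v
    obtain ⟨l, h1, h2⟩ := third i j hij
    obtain ⟨w, e, -⟩ := k i j l hij h1 h2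
    have : y i j * y i j = 1 := by rw [← e, show w * a * w⁻¹ * (w * a * w⁻¹) = w * (a * a) * w⁻¹ by group, ha]; group
    rcases z2 t with rfl | rfl <;> rcases z2 v with rfl | rfl
    exacts [one_mul _, one_mul _, mul_one _, this]
  · rintro ⟨⟨i, j⟩, hij⟩ ⟨⟨i', j'⟩, hij'⟩ t v e1 e2
    obtain ⟨l, h1, h2'⟩ := third i j hij
    obtain ⟨w, f1, f2, f3, f4⟩ := k i j l hij h1 h2'
    have : ∀ i j l i' j' : Fin 3, i ≠ j → i ≠ l → j ≠ l → i' ≠ j' → i ≠ j' → j ≠ i' →
        (i' = i ∧ j' = j) ∨ (i' = i ∧ j' = l) ∨ (i' = l ∧ j' = j) := by decide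
    refine (op_commute ?_ t v).commutator_eq
    dsimp only
    rcases this i j l i' j' hij h1 h2' hij' e1 e2 with ⟨rfl, rfl⟩ | ⟨rfl, rfl⟩ | ⟨rfl, rfl⟩
    · exact Commute.refl _
    · rw [← f1, ← f2]; exact h2.conj w
    · rw [← f1, ← f4]; exact h5.conj w
  · rintro ⟨⟨i, j⟩, hij⟩ ⟨⟨i', j'⟩, hij'⟩ h t v e
    dsimp only at e h ⊢
    subst e
    obtain ⟨w, f1, f2, f3, -⟩ := k i j j' hij h hij'
    rcases z2 t with rfl | rfl <;> rcases z2 v with rfl | rfl
    · simp [op_zero]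
    · simp [op_zero]
    · simp [op_zero]
    · rw [mul_one, op_one, op_one, op_one, ← f1, ← f2, ← f3, ← h1]; group

/-- the outer nodes of the diagram -/
def outer : Fin 3 → Fin 4 := ![0, 2, 3]

theorem cartan (h : 2 ≤ 4) : (∀ i, outer i ≠ 1 ∧ (rootD h).A (outer i) 1 = -1 ∧ (rootD h).A 1 (outer i) = -1) ∧
    ∀ i j, outer i ≠ outer j → (rootD h).A (outer i) (outer j) = 0 := by
  simp only [EG.rootD_A]; decide

theorem recog (hZ : Subgroup.center G = ⊥) [Nontrivial G] (a n u : Fin 3 → G) (c m : G)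
    (ha : ∀ i, a i * a i = 1) (hn : ∀ i, n i * n i = 1) (hm : m * m = 1)
    (h3 : ∀ i, m * n i * m = n i * m * n i) (hu : ∀ i, u i = m * a i * m)
    (hc : ∀ i, c = n i * u i * n i) (h1 : ∀ i, a i * c * (a i)⁻¹ * c⁻¹ = u i)
    (h2 : ∀ i, Commute (a i) (u i)) (h4 : ∀ i, Commute (u i) c)
    (h5 : ∀ i j, i ≠ j → Commute (a i) (a j) ∧ Commute (a i) (n j) ∧ Commute (n i) (n j))
    (hgen : ∀ K : Subgroup G, (∀ i, a i ∈ K ∧ n i * a i * n i ∈ K) → c ∈ K → m * c * m ∈ K → K = ⊤) :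
    Nonempty (G ≃* Cfsg.Omega (ZMod 2) (Cfsg.quadFormPlus 4 (ZMod 2))) := by
  have h24 : 2 ≤ 4 := by norm_num
  let S₀ := omegaPlusSys (F := ZMod 2) h24 (by norm_num)
  have hS₀ : S₀.Nondeg := omegaPlusSys_nondeg _ _
  have htop : S₀.grp = ⊤ := omegaPlusSys_grp _ _
  let Φ := rootD h24
  let A : Fin 4 → G := ![a 0, c, a 1, a 2]
  let B : Fin 4 → G := ![n 0 * a 0 * n 0, m * c * m, n 1 * a 1 * n 1, n 2 * a 2 * n 2]
  have hA : ∀ i, A (outer i) = a i ∧ B (outer i) = n i * a i * n i := by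
    intro i; fin_cases i <;> exact ⟨rfl, rfl⟩
  have hL : ∀ i, LocP S₀ (MonoidHom.snd G _) (fun k t => (op (A k) t, S₀.x (Φ.simple k) t))
      (fun k t => (op (B k) t, S₀.x (Φ.neg (Φ.simple k)) t)) {outer i, 1} := by
    intro i
    obtain ⟨x, hx, e1, e2, e3, e4⟩ := relA_two (ha i) (hn i) hm (h3 i) (hu i) (hc i) (h1 i) (h2 i) (h4 i)
    obtain ⟨hne, k1, k2⟩ := (cartan h24).1 i
    obtain ⟨y, hy, d1, d2, d3, d4⟩ := exists_relA_of_bond hS₀ hne k1 k2
    exact locP_of_relA hS₀ hne k1 k2 (fun _ _ => rfl) (fun _ _ => rfl) (relA_prod hx hy)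
      (by rw [e1, d1, (hA i).1]) (by rw [e2, d2, (hA i).2]) (by rw [e3, d3]; rfl) (by rw [e4, d4]; rfl)
  have hout : ∀ k : Fin 4, k = 1 ∨ ∃ i, k = outer i := by decide
  obtain ⟨S, hS, hS'⟩ := exists_stSys_of_pairs hS₀ (θ := MonoidHom.snd G _)
    (a := fun k t => (op (A k) t, S₀.x (Φ.simple k) t))
    (b := fun k t => (op (B k) t, S₀.x (Φ.neg (Φ.simple k)) t)) (fun k => by
      rcases hout k with rfl | ⟨i, rfl⟩
      · exact (hL 0).mono (by simp)
      · exact (hL i).mono (by simp))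
    (fun k l hkl h => by
      rcases hout k with rfl | ⟨i, rfl⟩ <;> rcases hout l with rfl | ⟨j, rfl⟩
      · exact absurd rfl hkl
      · exact Set.pair_comm _ _ ▸ hL j
      · exact hL i
      · exact absurd ((cartan h24).2 i j hkl) h)
    fun k l hkl h t v => by
      have hi : Φ.InSub {k} (Φ.simple k) := Φ.inSub_simple_iff.2 rfl
      have hj : Φ.InSub {l} (Φ.simple l) := Φ.inSub_simple_iff.2 rfl
      have hi' := Φ.inSub_neg_iff.2 hi
      have hj' := Φ.inSub_neg_iff.2 hj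
      have : (Commute (A k) (A l) ∧ Commute (A k) (B l)) ∧ Commute (B k) (A l) ∧ Commute (B k) (B l) := by
        rcases hout k with rfl | ⟨i, rfl⟩ <;> rcases hout l with rfl | ⟨j, rfl⟩
        · exact absurd rfl hkl
        · exact absurd h (by rw [((cartan h24).1 j).2.2]; decide)
        · exact absurd h (by rw [((cartan h24).1 i).2.1]; decide)
        · have hij : i ≠ j := fun e => hkl (by rw [e])
          obtain ⟨c1, c2, c3⟩ := h5 i j hij
          have c4 := (h5 j i hij.symm).2.1.symm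
          rw [(hA i).1, (hA i).2, (hA j).1, (hA j).2]
          exact ⟨⟨c1, (c2.mul_right c1).mul_right c2⟩, (c4.mul_left c1).mul_left c4,
            ((((c3.mul_right c4).mul_right c3).mul_left ((c2.mul_right c1).mul_right c2))).mul_left
              ((c3.mul_right c4).mul_right c3)⟩
      exact ⟨⟨Prod.ext (op_commute this.1.1 t v) (commute_of_orth S₀ hkl h hi hj t v),
        Prod.ext (op_commute this.1.2 t v) (commute_of_orth S₀ hkl h hi hj' t v)⟩,
        Prod.ext (op_commute this.2.1 t v) (commute_of_orth S₀ hkl h hi' hj t v),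
        Prod.ext (op_commute this.2.2 t v) (commute_of_orth S₀ hkl h hi' hj' t v)⟩
  obtain ⟨φ, hφ, -⟩ := exists_hom_quot_center hS₀ htop hS fun K hK => by
    have k1 : ∀ k, A k ∈ K ∧ B k ∈ K := fun k => by
      have := hK k 1
      rwa [(hS' k).1, (hS' k).2] at this
    exact hgen K (fun i => by rw [← (hA i).2]; rw [← (hA i).1]; exact k1 _) (k1 1).1 (k1 1).2
  have := FiLoc.simple_omega8
  let ψ : Cfsg.Omega (ZMod 2) (Cfsg.quadFormPlus 4 (ZMod 2)) →* G :=
    ((QuotientGroup.quotientBot (G := G)).toMonoidHom.comp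
    (QuotientGroup.quotientMulEquivOfEq hZ).toMonoidHom).comp (φ.comp (QuotientGroup.mk' _))
  have hψ : Function.Surjective ψ := (QuotientGroup.quotientBot.surjective.comp
    (QuotientGroup.quotientMulEquivOfEq hZ).surjective).comp (hφ.comp (QuotientGroup.mk'_surjective _))
  refine ⟨(MulEquiv.ofBijective ψ ⟨?_, hψ⟩).symm⟩
  rw [← MonoidHom.ker_eq_bot_iff]
  refine (IsSimpleGroup.eq_bot_or_eq_top_of_normal _ inferInstance).resolve_right fun h => ?_
  obtain ⟨g0, hg0⟩ := exists_ne (1 : G)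
  obtain ⟨g, hg⟩ := hψ g0
  exact hg0 (hg ▸ (h ▸ Subgroup.mem_top g : g ∈ ψ.ker))

end CfsgLib.O8R
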