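import Mathlib
import Cfsg.Agent.Lib.W4.WC

/-! Linear algebra for `Sym(3)³` acting on an orthogonal space of order `2⁸`. -/

set_option autoImplicit false
set_option synthInstance.maxSize 1024

namespace CfsgLib.O8R

open CfsgLib.ExtraTwo CfsgLib.W4 QuadraticMap

variable {V : Type*} [AddCommGroup V] [Module (ZMod 2) V] {q : QuadraticForm (ZMod 2) V}

theorem aa (v : V) : v + v = 0 := add_self_zmod2 v

theorem aa' (v w : V) : v + (v + w) = w := by rw [← add_assoc, aa, zero_add]

theorem ch2 {a b : V} (h : (1 : ZMod 2) • a = (1 : ZMod 2) • b) : a = b := by simpa using h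

theorem card_ge [Finite V] (U : Submodule (ZMod 2) V) {n : ℕ} {v : Fin n → V} (hv : ∀ i, v i ∈ U)
    (li : LinearIndependent (ZMod 2) v) : 2 ^ n ≤ Nat.card U := by
  have := Nat.card_le_card_of_injective (α := Fin n → ZMod 2) (β := U)
    (fun c => ⟨Fintype.linearCombination (ZMod 2) v c, by
      rw [Fintype.linearCombination_apply]
      exact U.sum_mem fun i _ => U.smul_mem _ (hv i)⟩)
    fun c d e => (linearIndependent_iff_injective_fintypeLinearCombination.mp li) (congrArg Subtype.val e)
  simpa using this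

theorem eq_zero_of_dual [Finite V] (hV : Nat.card V = 256) (v v' : Fin 8 → V)
    (h : ∀ i j, polar q (v i) (v' j) = if i = j then 1 else 0) {w : V}
    (hw : ∀ j, polar q w (v' j) = 0) : w = 0 := by
  let L : V →ₗ[ZMod 2] (Fin 8 → ZMod 2) := LinearMap.pi fun j => (polarBilin q).flip (v' j)
  have hL : ∀ x j, L x j = polar q x (v' j) := fun _ _ => rfl
  have hs : Function.Surjective L := fun c => ⟨∑ i, c i • v i, by
    funext j
    rw [map_sum, Finset.sum_apply]
    simp [hL, h]⟩
  have hb := (Nat.bijective_iff_surjective_and_card L).mpr ⟨hs, by simp [hV]⟩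
  exact hb.1 (by rw [map_zero]; funext j; exact hw j)

/-- a totally isotropic subspace has at most `16` elements -/
theorem card_le_of_isotropic [Finite V] (hV : Nat.card V = 256) (hn : (polarBilin q).Nondegenerate)
    (U : Submodule (ZMod 2) V) (hU : ∀ x ∈ U, ∀ y ∈ U, polar q x y = 0) : Nat.card U ≤ 16 := by
  have hr : LinearMap.IsRefl (polarBilin q) := fun x y h => by
    rw [polarBilin_apply_apply, polar_comm]; exact h
  have h1 := LinearMap.BilinForm.finrank_orthogonal hn U
  have h2 : U ≤ LinearMap.BilinForm.orthogonal (polarBilin q) U := fun x hx y hy => hU y hy x hx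
  have h3 := Submodule.finrank_mono h2
  have h4 := Module.natCard_eq_pow_finrank (K := ZMod 2) (V := V)
  have h5 := Module.natCard_eq_pow_finrank (K := ZMod 2) (V := U)
  rw [Nat.card_zmod] at h4 h5
  have h6 : Module.finrank (ZMod 2) V = 8 :=
    Nat.pow_right_injective (le_refl 2) (show 2 ^ _ = 2 ^ 8 by rw [← h4, hV])
  rw [h5]
  exact (Nat.pow_le_pow_right (by norm_num) (show _ ≤ 4 by omega)).trans (by norm_num)

section Fpf

variable {X σ : V →ₗ[ZMod 2] V}

theorem fpf_A [Finite V] (hV : Nat.card V = 256) (hX : ∀ v, X (X (X v)) = v) (hσ : ∀ v, σ (σ v) = v)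
    (hc : ∀ v, σ (X v) = X (σ v)) {p e c0 : V} (he : σ e + e = p) (hp : p ≠ 0)
    (hp1 : p + X p + X (X p) = 0) (h0 : c0 ≠ 0) (hc0 : X c0 = c0) {v : V}
    (hv : v + X v + X (X v) = 0) : ∃ a b : ZMod 2, σ v + v = a • p + b • X p := by
  by_contra hw
  set w := σ v + v with hwd
  obtain ⟨c, c1, c2, c3⟩ : ∃ c, c ≠ 0 ∧ X c = c ∧ σ c = c := by
    by_cases h : σ c0 = c0
    · exact ⟨c0, h0, hc0, h⟩
    · exact ⟨σ c0 + c0, fun e => h (add_eq_zero_zmod2.mp e), by rw [map_add, ← hc, hc0],
        by rw [map_add, hσ, add_comm]⟩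
  have hw1 : w + X w + X (X w) = 0 := by
    have := congrArg σ hv
    rw [map_add, map_add, hc, hc, hc, map_zero] at this
    rw [hwd, map_add, map_add, ← add_zero 0]
    nth_rewrite 1 [← this]; rw [← hv]; abel
  have x2 : ∀ u, u + X u + X (X u) = 0 → X (X u) = u + X u := fun u h => (add_eq_zero_zmod2.mp h).symm
  have hP : ∀ u, (∃ a b : ZMod 2, X u = a • p + b • X p) → ∃ a b : ZMod 2, u = a • p + b • X p := by
    rintro u ⟨a, b, h⟩
    refine ⟨a + b, a, ?_⟩
    rw [← hX u, h, map_add, map_add, map_smul, map_smul, map_smul, map_smul, hX, x2 p hp1]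
    module
  have li : LinearIndependent (ZMod 2) ![p, X p, w, X w, c] := by
    rw [Fintype.linearIndependent_iff]
    intro g hg
    simp only [Fin.sum_univ_five, Matrix.cons_val_zero, Matrix.cons_val_one, Matrix.cons_val] at hg
    have g4 : g 4 = 0 := by
      have h1 := congrArg (LinearMap.id + X + X ∘ₗ X : V →ₗ[ZMod 2] V) hg
      have t1 : ∀ u, u + X u + X (X u) = 0 → X u + X (X u) + X (X (X u)) = 0 := fun u h => by
        rw [← map_add, ← map_add, h, map_zero]
      simp only [map_add, map_smul, map_zero, LinearMap.add_apply, LinearMap.id_apply,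
        LinearMap.comp_apply, hp1, hw1, t1 p hp1, t1 w hw1, c2, smul_zero, zero_add, aa] at h1
      rcases zmod2_cases (g 4) with e | e
      · exact e
      · rw [e, one_smul] at h1; exact absurd h1 c1
    rw [g4, zero_smul, add_zero, add_assoc, add_eq_zero_zmod2] at hg
    have g23 : g 2 = 0 ∧ g 3 = 0 := by
      rcases zmod2_cases (g 2) with e | e <;> rcases zmod2_cases (g 3) with e' | e' <;>
        simp only [e, e', zero_smul, one_smul, zero_add, add_zero] at hg
      · exact ⟨e, e'⟩
      · exact absurd (hP w ⟨_, _, hg.symm⟩) hw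
      · exact absurd ⟨_, _, hg.symm⟩ hw
      · exact absurd (hP w (hP _ ⟨_, _, (x2 w hw1).trans hg.symm⟩)) hw
    rw [g23.1, g23.2, zero_smul, zero_smul, add_zero] at hg
    have n1 : X p ≠ 0 := fun e => hp (by rw [← hX p, e, map_zero, map_zero])
    have n2 : p + X p ≠ 0 := fun e => n1 (by rw [← hX (X p), x2 p hp1, e, map_zero, map_zero])
    have g01 : g 0 = 0 ∧ g 1 = 0 := by
      rcases zmod2_cases (g 0) with e | e <;> rcases zmod2_cases (g 1) with e' | e' <;>
        simp only [e, e', zero_smul, one_smul, zero_add, add_zero] at hg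
      exacts [⟨e, e'⟩, absurd hg n1, absurd hg hp, absurd hg n2]
    intro i
    fin_cases i
    exacts [g01.1, g01.2, g23.1, g23.2, g4]
  have li4 : LinearIndependent (ZMod 2) ![p, X p, w, X w] := by
    have := li.comp (Fin.castSucc : Fin 4 → Fin 5) (Fin.castSucc_injective _)
    convert this using 1
    funext i; fin_cases i <;> rfl
  have m : ∀ i, ![p, X p, w, X w] i ∈ LinearMap.range (σ + LinearMap.id) := by
    intro i
    fin_cases i
    exacts [⟨e, he⟩, ⟨X e, by simp [← he, hc]⟩, ⟨v, rfl⟩, ⟨X v, by simp [hwd, hc]⟩]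
  have hle : ∀ u ∈ LinearMap.range (σ + LinearMap.id), u ∈ LinearMap.ker (σ + LinearMap.id) := by
    rintro _ ⟨u, rfl⟩
    simp [hσ, add_comm, aa]
  have k1 := card_ge _ m li4
  have k2 := card_ge (LinearMap.ker (σ + LinearMap.id)) (v := ![p, X p, w, X w, c]) (fun i => by
    fin_cases i
    exacts [hle _ (m 0), hle _ (m 1), hle _ (m 2), hle _ (m 3), by simp [c3, aa]]) li
  have k3 := card_ker_mul_range (σ + LinearMap.id)
  have := Nat.mul_le_mul k2 k1
  omega

theorem fpf_B [Finite V] (hn : (polarBilin q).Nondegenerate) (hXq : ∀ v, q (X v) = q v)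
    (hσq : ∀ v, q (σ v) = q v) (hX : ∀ v, X (X (X v)) = v) (hσ : ∀ v, σ (σ v) = v)
    (hc : ∀ v, σ (X v) = X (σ v)) {p e : V} (he : σ e + e = p) (hp1 : p + X p + X (X p) = 0)
    (hA : ∀ v, v + X v + X (X v) = 0 → ∃ a b : ZMod 2, σ v + v = a • p + b • X p) {v : V}
    (hv : v + X v + X (X v) = 0) : polar q (σ v + v) v = 0 ∧
      (σ v + v = 0 ↔ polar q v p = 0 ∧ polar q v (X p) = 0) := by
  have he' : σ (X e) + X e = X p := by rw [hc, ← map_add, he]
  have f1 : σ p = p := by rw [← he, map_add, hσ, add_comm]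
  have b1 : polar q p (X p) = 0 := by rw [← he']; exact polar_fixed hσq f1 _
  have q1 : q p = 0 := by
    have := q_add (q := q) p (X p)
    rw [add_eq_zero_zmod2.mp hp1, hXq, hXq, b1, add_self_zmod2, add_zero] at this
    exact this
  refine ⟨?_, fun h => ?_, fun h => ?_⟩
  · obtain ⟨a, b, h⟩ := hA v hv
    have h1 := q_add (q := q) (σ v) v
    rw [hσq, add_self_zmod2, zero_add, h, q_add, QuadraticMap.map_smul, QuadraticMap.map_smul, hXq, q1,
      polar_smul_left, polar_smul_right, b1] at h1
    rw [polar_add_left, polar_self2, ← h1]; simp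
  · have := add_eq_zero_zmod2.mp h
    exact ⟨by rw [← he]; exact polar_fixed hσq this _, by rw [← he']; exact polar_fixed hσq this _⟩
  · refine hn.1 _ fun u => ?_
    have k : ∀ u, polar q (σ v + v) u = polar q v (σ u + u) := fun u => by
      rw [polar_add_left, polar_add_right, ← polar_iso hσq v (σ u), hσ]
    show polar q (σ v + v) u = 0
    obtain ⟨a, b, h1⟩ := hA (X u + X (X u)) (by
      simp only [map_add, hX]
      linear_combination (norm := (apply ch2; match_scalars <;> decide)))
    have h2 : u = (X u + X (X u)) + (u + X u + X (X u)) := by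
      linear_combination (norm := (apply ch2; match_scalars <;> decide))
    have h3 : X (u + X u + X (X u)) = u + X u + X (X u) := by simp only [map_add, hX]; abel
    have h4 : σ v + v = X (X (σ v + v)) + X (σ v + v) := by
      have := congrArg σ hv
      rw [map_add, map_add, hc, hc, hc, map_zero] at this
      simp only [map_add]
      linear_combination (norm := (apply ch2; match_scalars <;> decide)) this + hv
    rw [h2, polar_add_right, k, h1, polar_add_right, polar_smul_right, polar_smul_right, h.1, h.2,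
      polar_comm, h4, polar_fixed hXq h3]
    simp

/-- an element of order three commuting with a four-group whose involutions all have `t` in their
commutator space acts without fixed points -/
theorem fpf [Finite V] (hV : Nat.card V = 256) (hn : (polarBilin q).Nondegenerate)
    {τ : V →ₗ[ZMod 2] V} (hXq : ∀ v, q (X v) = q v)
    (hσq : ∀ v, q (σ v) = q v) (hτq : ∀ v, q (τ v) = q v) (hX : ∀ v, X (X (X v)) = v)
    (hσ : ∀ v, σ (σ v) = v) (hτ : ∀ v, τ (τ v) = v) (hc : ∀ v, σ (X v) = X (σ v))
    (hc' : ∀ v, τ (X v) = X (τ v)) {t e1 e2 e3 : V} (h1 : σ e1 + e1 = t) (h2 : τ e2 + e2 = t)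
    (h3 : σ (τ e3) + e3 = t) (ht : X t ≠ t) (v0 : V) : v0 + X v0 + X (X v0) = 0 := by
  by_contra h0
  have hc0 : X (v0 + X v0 + X (X v0)) = v0 + X v0 + X (X v0) := by simp only [map_add, hX]; abel
  have hV1 : ∀ u, X u + X (X u) + X (X u + X (X u)) + X (X (X u + X (X u))) = 0 := fun u => by
    simp only [map_add, hX]
    linear_combination (norm := (apply ch2; match_scalars <;> decide))
  have hp : X t + X (X t) ≠ 0 := fun e => ht (by
    have := congrArg X (congrArg X (add_eq_zero_zmod2.mp e))
    rwa [hX, eq_comm] at this)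
  have k1 : σ (X e1 + X (X e1)) + (X e1 + X (X e1)) = X t + X (X t) := by
    rw [← h1]; simp only [map_add, hc]; abel
  have k2 : τ (X e2 + X (X e2)) + (X e2 + X (X e2)) = X t + X (X t) := by
    rw [← h2]; simp only [map_add, hc']; abel
  have k3 : σ (τ (X e3 + X (X e3))) + (X e3 + X (X e3)) = X t + X (X t) := by
    rw [← h3]; simp only [map_add, hc, hc']; abel
  set p := X t + X (X t)
  have A1 := fun v => fpf_A hV hX hσ hc k1 hp (hV1 t) h0 hc0 (v := v)
  have A2 := fun v => fpf_A hV hX hτ hc' k2 hp (hV1 t) h0 hc0 (v := v)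
  have hv := hV1 e3
  set v := X e3 + X (X e3)
  obtain ⟨b1, b2⟩ := fpf_B hn hXq hσq hX hσ hc k1 (hV1 t) A1 hv
  obtain ⟨b3, b4⟩ := fpf_B hn hXq hτq hX hτ hc' k2 (hV1 t) A2 hv
  have : σ v + v = τ v + v := by
    by_cases h : polar q v p = 0 ∧ polar q v (X p) = 0
    · rw [b2.mpr h, b4.mpr h]
    · have n1 := mt b2.mp h
      have n2 := mt b4.mp h
      obtain ⟨a, b, e⟩ := A1 v hv
      obtain ⟨a', b', e'⟩ := A2 v hv
      rw [e] at n1 b1
      rw [e'] at n2 b3
      rw [e, e']
      rw [polar_add_left, polar_smul_left, polar_smul_left, polar_comm _ p, polar_comm _ (X p)] at b1 b3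
      have n1' : ¬ (a = 0 ∧ b = 0) := fun h => n1 (by simp [h.1, h.2])
      have n2' : ¬ (a' = 0 ∧ b' = 0) := fun h => n2 (by simp [h.1, h.2])
      have : a = a' ∧ b = b' := by
        generalize polar q v p = x, polar q v (X p) = y at h b1 b3
        clear * - h b1 b3 n1' n2'
        decide +revert
      rw [this.1, this.2]
  rw [← add_right_cancel this, hσ, aa] at k3
  exact hp k3.symm

end Fpf

end CfsgLib.O8R
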