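import Mathlib
import Cfsg.Agent.Lib.O8R.Lin

/-! The module `2 ⊗ 2 ⊗ 2` of `Sym(3)³` and its recognition. -/

set_option autoImplicit false
set_option synthInstance.maxSize 2048
set_option maxRecDepth 100000

namespace CfsgLib.O8R

open CfsgLib.ExtraTwo CfsgLib.W4 QuadraticMap

abbrev S3 := Equiv.Perm (Fin 3)
abbrev SS := S3 × S3 × S3
abbrev I3 := Fin 3 × Fin 3 × Fin 3
abbrev V8 := ((ZMod 2 × ZMod 2) × (ZMod 2 × ZMod 2)) × ((ZMod 2 × ZMod 2) × (ZMod 2 × ZMod 2))

/-- action on triples -/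
def ap (g : SS) (α : I3) : I3 := (g.1 α.1, g.2.1 α.2.1, g.2.2 α.2.2)

/-- translations -/
def xs (α : I3) : SS := (Equiv.addRight α.1, Equiv.addRight α.2.1, Equiv.addRight α.2.2)

/-- unit triples -/
def eI : Fin 3 → I3 := ![(1, 0, 0), (0, 1, 0), (0, 0, 1)]

/-- coordinates of a triple -/
def co (α : I3) : Fin 3 → Fin 3 := ![α.1, α.2.1, α.2.2]

/-- the elements of order three -/
def XX (i : Fin 3) : SS := xs (eI i)

/-- the involutions fixing the origin -/
def AA : Fin 3 → SS := ![(Equiv.swap 1 2, 1, 1), (1, Equiv.swap 1 2, 1), (1, 1, Equiv.swap 1 2)]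

/-- the natural action on pairs -/
def ac {W : Type*} [AddCommMonoid W] (σ : S3) (v : W × W) : W × W :=
  ((if σ 0 = 1 then 0 else v.1) + (if σ 1 = 1 then 0 else v.2),
    (if σ 0 = 0 then 0 else v.1) + (if σ 1 = 0 then 0 else v.2))

theorem ac_add {W : Type*} [AddCommMonoid W] (σ : S3) (v w : W × W) :
    ac σ (v + w) = ac σ v + ac σ w := by
  unfold ac
  ext <;> simp only [Prod.fst_add, Prod.snd_add] <;> split_ifs <;> simp [add_add_add_comm]

/-- the tensor action -/
def r8 (g : SS) (v : V8) : V8 :=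
  ac g.1 (ac g.2.1 (ac g.2.2 v.1.1, ac g.2.2 v.1.2), ac g.2.1 (ac g.2.2 v.2.1, ac g.2.2 v.2.2))

theorem r8_add (g : SS) (v w : V8) : r8 g (v + w) = r8 g v + r8 g w := by
  simp only [r8, ← ac_add, Prod.mk_add_mk, Prod.fst_add, Prod.snd_add]

theorem r8_zero (g : SS) : r8 g 0 = 0 := by
  have := r8_add g 0 0
  rw [add_zero] at this
  exact left_eq_add.mp this

/-- `e_i ⊗ w` -/
def e2 {W : Type*} [Zero W] (i : Fin 3) (w : W) : W × W :=
  (if i = 1 then 0 else w, if i = 0 then 0 else w)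

/-- pure tensors -/
def PT (α : I3) : V8 := e2 α.1 (e2 α.2.1 (e2 α.2.2 1))

/-- the invariant form -/
def b8 (v w : V8) : ZMod 2 :=
  v.1.1.1 * w.2.2.2 + v.1.1.2 * w.2.2.1 + v.1.2.1 * w.2.1.2 + v.1.2.2 * w.2.1.1 +
    v.2.1.1 * w.1.2.2 + v.2.1.2 * w.1.2.1 + v.2.2.1 * w.1.1.2 + v.2.2.2 * w.1.1.1

theorem b8_add_left (u v w : V8) : b8 (u + v) w = b8 u w + b8 v w := by
  simp only [b8, Prod.fst_add, Prod.snd_add]; ring

theorem b8_add_right (u v w : V8) : b8 u (v + w) = b8 u v + b8 u w := by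
  simp only [b8, Prod.fst_add, Prod.snd_add]; ring

theorem all8 {p : V8 → Prop} (h : ∀ a b c d e f g k : ZMod 2, p (((a, b), (c, d)), ((e, f), (g, k))))
    (v : V8) : p v := h _ _ _ _ _ _ _ _

instance decAll8 (p : V8 → Prop) [DecidablePred p] : Decidable (∀ v, p v) :=
  decidable_of_iff (∀ a b c d e f g k : ZMod 2, p (((a, b), (c, d)), ((e, f), (g, k))))
    ⟨all8, fun h _ _ _ _ _ _ _ _ => h _⟩

instance decAllSS (p : SS → Prop) [DecidablePred p] : Decidable (∀ v, p v) :=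
  decidable_of_iff (∀ a b c : S3, p (a, b, c)) ⟨fun h _ => h _ _ _, fun h _ _ _ => h _⟩

instance decAllI (p : I3 → Prop) [DecidablePred p] : Decidable (∀ v, p v) :=
  decidable_of_iff (∀ a b c : Fin 3, p (a, b, c)) ⟨fun h _ => h _ _ _, fun h _ _ _ => h _⟩

theorem ap_mul (g h : SS) (α : I3) : ap (g * h) α = ap g (ap h α) := rfl

theorem ap_one (α : I3) : ap 1 α = α := rfl

theorem ap_xs (α β : I3) : ap (xs α) β = β + α := rfl

theorem ap_xs0 (α : I3) : ap (xs α) 0 = α := by rw [ap_xs, zero_add]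

theorem ap_inv_eq {g : SS} {α β : I3} (h : ap g α = β) : ap g⁻¹ β = α := by
  rw [← h, ← ap_mul, inv_mul_cancel, ap_one]

theorem r8_PT : ∀ (g : SS) (α : I3), r8 g (PT α) = PT (ap g α) := by decide +kernel

/-- full support -/
def full (α : I3) : Prop := α.1 ≠ 0 ∧ α.2.1 ≠ 0 ∧ α.2.2 ≠ 0

instance : DecidablePred full := fun _ => inferInstanceAs (Decidable (_ ∧ _ ∧ _))

theorem b8_PT : ∀ α β : I3, b8 (PT α) (PT β) = if full (β - α) then 1 else 0 := by decide +kernel

theorem ind8 {p : V8 → Prop} (h0 : p 0) (h1 : ∀ α, p (PT α)) (h2 : ∀ v w, p v → p w → p (v + w))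
    (v : V8) : p v := by
  have k : ∀ (c : ZMod 2) α, p (c • PT α) := fun c α => by
    rcases zmod2_cases c with rfl | rfl
    · rw [zero_smul]; exact h0
    · rw [one_smul]; exact h1 α
  have : ∀ v : V8, v = v.1.1.1 • PT (0, 0, 0) + v.1.1.2 • PT (0, 0, 1) + v.1.2.1 • PT (0, 1, 0) +
    v.1.2.2 • PT (0, 1, 1) + v.2.1.1 • PT (1, 0, 0) + v.2.1.2 • PT (1, 0, 1) +
    v.2.2.1 • PT (1, 1, 0) + v.2.2.2 • PT (1, 1, 1) := by decide +kernel
  rw [this v]
  exact h2 _ _ (h2 _ _ (h2 _ _ (h2 _ _ (h2 _ _ (h2 _ _ (h2 _ _ (k _ _) (k _ _)) (k _ _)) (k _ _))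
    (k _ _)) (k _ _)) (k _ _)) (k _ _)

variable {V : Type*} [AddCommGroup V] [Module (ZMod 2) V] {q : QuadraticForm (ZMod 2) V}

section Rep

variable (ρ : SS →* (V ≃ₗ[ZMod 2] V))

theorem rho_mul (g h : SS) (v : V) : ρ (g * h) v = ρ g (ρ h v) := by rw [map_mul]; rfl

theorem rho_one (v : V) : ρ 1 v = v := by rw [map_one]; rfl

theorem rho_eq {g h g' h' : SS} (e : g * h = g' * h') (v : V) : ρ g (ρ h v) = ρ g' (ρ h' v) := by
  rw [← rho_mul, e, rho_mul]

theorem rho_X3 (i : Fin 3) (v : V) : ρ (XX i) (ρ (XX i) (ρ (XX i) v)) = v := by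
  have : ∀ i, XX i * (XX i * XX i) = 1 := by decide +kernel
  rw [← rho_mul, ← rho_mul, mul_assoc, this, rho_one]

theorem rho_A2 (i : Fin 3) (v : V) : ρ (AA i) (ρ (AA i) v) = v := by
  have : ∀ i, AA i * AA i = 1 := by decide +kernel
  rw [← rho_mul, this, rho_one]

variable {ρ}

theorem polar_rho (hq : ∀ g v, q (ρ g v) = q v) (g : SS) (v w : V) :
    polar q (ρ g v) (ρ g w) = polar q v w := polar_iso (σ := (ρ g).toLinearMap) (hq g) v w

theorem la1 [Finite V] (hV : Nat.card V = 256) (hn : (polarBilin q).Nondegenerate)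
    (hq : ∀ g v, q (ρ g v) = q v) {t : V} (hfix : ∀ g, ρ g t = t ↔ ap g 0 = 0)
    (hE : ∀ g, ap g 0 = 0 → g ≠ 1 → ∃ e, ρ g e + e = t) :
    ∃ φ : V ≃ₗ[ZMod 2] V8, (∀ v w, polar q v w = b8 (φ v) (φ w)) ∧
      (∀ g v, φ (ρ g v) = r8 g (φ v)) ∧ φ t = PT 0 := by
  have hf : ∀ i v, v + ρ (XX i) v + ρ (XX i) (ρ (XX i) v) = 0 := by
    intro i
    have d : ∀ i, ∃ j k, AA j * XX i = XX i * AA j ∧ AA k * XX i = XX i * AA k ∧ ap (AA j) 0 = 0 ∧
      ap (AA k) 0 = 0 ∧ ap (AA j * AA k) 0 = 0 ∧ AA j ≠ 1 ∧ AA k ≠ 1 ∧ AA j * AA k ≠ 1 ∧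
      ap (XX i) 0 ≠ 0 := by decide +kernel
    obtain ⟨j, k, c1, c2, f1, f2, f3, n1, n2, n3, n4⟩ := d i
    obtain ⟨e1, h1⟩ := hE _ f1 n1
    obtain ⟨e2, h2⟩ := hE _ f2 n2
    obtain ⟨e3, h3⟩ := hE _ f3 n3
    rw [rho_mul] at h3
    exact fpf (X := (ρ (XX i)).toLinearMap) (σ := (ρ (AA j)).toLinearMap) (τ := (ρ (AA k)).toLinearMap)
      hV hn (hq _) (hq _) (hq _) (rho_X3 ρ i) (rho_A2 ρ j) (rho_A2 ρ k) (rho_eq ρ c1) (rho_eq ρ c2)
      h1 h2 h3 (mt (hfix _).mp n4)
  let P : I3 → V := fun α => ρ (xs α) t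
  have hP : ∀ g α, ρ g (P α) = P (ap g α) := fun g α => by
    have : ρ ((xs (ap g α))⁻¹ * (g * xs α)) t = t := (hfix _).mpr (by
      rw [ap_mul, ap_mul, ap_xs0]; exact ap_inv_eq (ap_xs0 _))
    show ρ g (ρ (xs α) t) = ρ (xs (ap g α)) t
    nth_rewrite 2 [← this]
    rw [← rho_mul, ← rho_mul, mul_inv_cancel_left]
  have P0 : P 0 = t := (hfix _).mpr (ap_xs0 0)
  have hb : ∀ α β, polar q (P α) (P β) = polar q t (P (β - α)) := fun α β => by
    rw [← polar_rho hq (xs α) t, hP, ap_xs, sub_add_cancel]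
  have b0 : ∀ α, ¬ full α → polar q t (P α) = 0 := fun α h => by
    have d : ∀ α, ¬ full α → ∃ i, ap (AA i) α = α ∧ ap (AA i) 0 = 0 ∧ AA i ≠ 1 := by decide +kernel
    obtain ⟨i, d1, d2, d3⟩ := d α h
    obtain ⟨e, he⟩ := hE _ d2 d3
    rw [polar_comm, ← he]
    exact polar_fixed (σ := (ρ (AA i)).toLinearMap) (hq _) ((hP _ _).trans (by rw [d1])) e
  have b1 : ∀ α i, polar q t (P α) + polar q t (P (α + eI i)) + polar q t (P (α + eI i + eI i)) = 0 :=
    fun α i => by
      rw [← polar_add_right, ← polar_add_right, ← ap_xs, ← ap_xs, ← hP, ← hP, ← hP]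
      exact (congrArg (polar q t) (hf i (P α))).trans (polar_zero_right q t)
  have b2 : ∀ α, full α → polar q t (P α) = polar q t (P (1, 1, 1)) := by
    have s1 : ∀ b c : Fin 3, polar q t (P (2, b, c)) = polar q t (P (1, b, c)) := fun b c => by
      have := b1 (0, b, c) 0
      rw [b0 _ (fun h => h.1 rfl), zero_add, add_eq_zero_zmod2] at this
      simpa [eI] using this.symm
    have s2 : ∀ a c : Fin 3, polar q t (P (a, 2, c)) = polar q t (P (a, 1, c)) := fun a c => by
      have := b1 (a, 0, c) 1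
      rw [b0 _ (fun h => h.2.1 rfl), zero_add, add_eq_zero_zmod2] at this
      simpa [eI] using this.symm
    have s3 : ∀ a b : Fin 3, polar q t (P (a, b, 2)) = polar q t (P (a, b, 1)) := fun a b => by
      have := b1 (a, b, 0) 2
      rw [b0 _ (fun h => h.2.2 rfl), zero_add, add_eq_zero_zmod2] at this
      simpa [eI] using this.symm
    have k : ∀ a : Fin 3, a ≠ 0 → a = 1 ∨ a = 2 := by decide
    rintro ⟨a, b, c⟩ ⟨h1, h2, h3⟩
    rcases k a h1 with rfl | rfl <;> rcases k b h2 with rfl | rfl <;> rcases k c h3 with rfl | rfl <;>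
      simp only [s1, s2, s3]
  have b3 : polar q t (P (1, 1, 1)) = 1 := by
    rw [← zmod2_ne_zero]
    intro h
    have h0 : ∀ α β, polar q (P α) (P β) = 0 := fun α β => by
      rw [hb]
      by_cases e : full (β - α)
      · rw [b2 _ e, h]
      · exact b0 _ e
    have h1 := card_le_of_isotropic hV hn (Submodule.span (ZMod 2) (Set.range P)) fun x hx y hy => by
      induction hx using Submodule.span_induction with
      | mem x hx =>
        induction hy using Submodule.span_induction with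
        | mem y hy => obtain ⟨a, rfl⟩ := hx; obtain ⟨b, rfl⟩ := hy; exact h0 a b
        | zero => exact polar_zero_right _ _
        | add a b _ _ ha hb => rw [polar_add_right, ha, hb, add_zero]
        | smul c a _ ha => rw [polar_smul_right, ha, smul_zero]
      | zero => exact polar_zero_left _ _
      | add a b _ _ ha hb => rw [polar_add_left, ha, hb, add_zero]
      | smul c a _ ha => rw [polar_smul_left, ha, smul_zero]
    have h2 := Nat.card_le_card_of_injective (α := I3) (β := Submodule.span (ZMod 2) (Set.range P))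
      (fun α => ⟨P α, Submodule.subset_span ⟨α, rfl⟩⟩) fun α β e => by
        have e' : P α = P β := congrArg Subtype.val e
        have h3 := hP (xs (-β)) α
        rw [e', hP, ap_xs, ap_xs, add_neg_cancel, P0, eq_comm, hfix, ap_xs0] at h3
        exact add_neg_eq_zero.mp h3
    simp at h2
    omega
  have hB : ∀ α β, polar q (P α) (P β) = if full (β - α) then 1 else 0 := fun α β => by
    rw [hb]
    split_ifs with e
    · rw [b2 _ e, b3]
    · exact b0 _ e
  let L : V →ₗ[ZMod 2] V8 := linOfAdd (fun v => (((polar q v (P (1, 1, 1)), polar q v (P (1, 1, 0))),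
    (polar q v (P (1, 0, 1)), polar q v (P (1, 0, 0)))), ((polar q v (P (0, 1, 1)), polar q v (P (0, 1, 0))),
    (polar q v (P (0, 0, 1)), polar q v (P (0, 0, 0)))))) fun a b => by simp only [polar_add_left]; rfl
  have hL : ∀ α, L (P α) = PT α := fun α => by
    show (((polar q _ (P (1, 1, 1)), polar q _ (P (1, 1, 0))),
      (polar q _ (P (1, 0, 1)), polar q _ (P (1, 0, 0)))), ((polar q _ (P (0, 1, 1)), polar q _ (P (0, 1, 0))),
      (polar q _ (P (0, 0, 1)), polar q _ (P (0, 0, 0))))) = _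
    simp only [hB]
    revert α; decide +kernel
  have hs : Function.Surjective L := ind8 ⟨0, map_zero _⟩ (fun α => ⟨_, hL α⟩)
    fun _ _ ⟨a, ha⟩ ⟨b, hb⟩ => ⟨a + b, by rw [map_add, ha, hb]⟩
  let φ := LinearEquiv.ofBijective L ((Nat.bijective_iff_surjective_and_card L).mpr ⟨hs, by simp [hV]⟩)
  have hφ : ∀ α, φ (P α) = PT α := hL
  have hφ' : ∀ α, φ.symm (PT α) = P α := fun α => by rw [← hφ, φ.symm_apply_apply]
  refine ⟨φ, fun v w => ?_, fun g v => ?_, P0 ▸ hφ 0⟩
  · obtain ⟨v, rfl⟩ := φ.symm.surjective v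
    obtain ⟨w, rfl⟩ := φ.symm.surjective w
    rw [φ.apply_symm_apply, φ.apply_symm_apply]
    induction v using ind8 with
    | h0 => simp [b8]
    | h1 α =>
      induction w using ind8 with
      | h0 => simp [b8]
      | h1 β => rw [hφ', hφ', hB, b8_PT]
      | h2 a b ha hb => rw [map_add, polar_add_right, ha, hb, b8_add_right]
    | h2 a b ha hb => rw [map_add, polar_add_left, ha, hb, b8_add_left]
  · obtain ⟨v, rfl⟩ := φ.symm.surjective v
    rw [φ.apply_symm_apply]
    induction v using ind8 with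
    | h0 => rw [map_zero, map_zero, map_zero, r8_zero]
    | h1 α => rw [hφ', hP, hφ, r8_PT]
    | h2 a b ha hb => rw [map_add, map_add, map_add, ha, hb, r8_add]

theorem la2 [Finite V] (hV : Nat.card V = 256) (hn : (polarBilin q).Nondegenerate)
    (hq : ∀ g v, q (ρ g v) = q v) (hinj : ∀ i, ∃ v, ρ (XX i) v ≠ v)
    (H : ∀ i j v, ρ (AA j) (ρ (AA i) v + v) = ρ (AA i) v + v)
    (Hq : ∀ i v, q (ρ (AA i) v + v) = 0) : False := by
  let W : Fin 3 → V → Prop := fun i v => v + ρ (XX i) v + ρ (XX i) (ρ (XX i) v) = 0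
  have d1 : ∀ i, AA i * XX i = XX i * (XX i * AA i) := by decide +kernel
  have d2 : ∀ i j, i ≠ j → AA j * XX i = XX i * AA j := by decide +kernel
  have d3 : ∀ i j, XX j * XX i = XX i * XX j := by decide +kernel
  have d4 : ∀ j, XX j = AA j * (XX j * (AA j * (XX j * XX j))) := by decide +kernel
  have aX : ∀ i v, ρ (AA i) (ρ (XX i) v) = ρ (XX i) (ρ (XX i) (ρ (AA i) v)) := fun i v => by
    rw [rho_eq ρ (d1 i), rho_mul]
  have WX : ∀ i j v, W i v → W i (ρ (XX j) v) := fun i j v h => by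
    have := congrArg (ρ (XX j)) h
    simpa only [map_add, map_zero, rho_eq ρ (d3 i j)] using this
  have Wa : ∀ i v, W i v → W i (ρ (AA i) v + v) := fun i v h => by
    have := congrArg (ρ (AA i)) h
    simp only [map_add, map_zero, aX, rho_X3] at this
    show _ = _
    simp only [map_add]
    linear_combination (norm := (apply ch2; match_scalars <;> decide)) this + h
  have W1 : ∀ i v, W i (ρ (XX i) v + ρ (XX i) (ρ (XX i) v)) := fun i v => by
    show _ = _
    simp only [map_add, rho_X3]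
    linear_combination (norm := (apply ch2; match_scalars <;> decide))
  have dec : ∀ i v, W i v → v = ρ (XX i) (ρ (AA i) (ρ (XX i) v) + ρ (XX i) v) +
      ρ (XX i) (ρ (XX i) (ρ (AA i) (ρ (XX i) (ρ (XX i) v)) + ρ (XX i) (ρ (XX i) v))) := fun i v h => by
    simp only [map_add, aX, rho_X3]
    linear_combination (norm := (apply ch2; match_scalars <;> decide)) h
  have fa : ∀ i j v, i ≠ j → W i v → ρ (AA j) v = v := fun i j v hij h => by
    rw [dec i v h, map_add, rho_eq ρ (d2 i j hij), rho_eq ρ (d2 i j hij), rho_eq ρ (d2 i j hij), H, H]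
  have fx : ∀ i j v, i ≠ j → W i v → ρ (XX j) v = v := fun i j v hij h => by
    rw [d4, rho_mul, rho_mul, rho_mul, rho_mul, fa i j _ hij (WX i j _ (WX i j _ h)), rho_X3,
      fa i j _ hij h]
  have orth : ∀ i v w, ρ (XX i) v = v → W i w → polar q v w = 0 := fun i v w h h' => by
    have : w = ρ (XX i) (ρ (XX i) w) + ρ (XX i) w := by
      linear_combination (norm := (apply ch2; match_scalars <;> decide)) h'
    rw [this]; exact polar_fixed (σ := (ρ (XX i)).toLinearMap) (hq _) h _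
  let U : Fin 3 → V → Prop := fun i w => ∃ y, W i y ∧ w = ρ (AA i) y + y
  have UW : ∀ i w, U i w → W i w := by rintro i _ ⟨y, hy, rfl⟩; exact Wa i y hy
  have U0 : ∀ i w w', U i w → U i w' → polar q w w' = 0 := by
    rintro i _ _ ⟨y, -, rfl⟩ ⟨y', -, rfl⟩
    exact polar_fixed (σ := (ρ (AA i)).toLinearMap) (hq _) (H i i y) _
  have U1 : ∀ i w, U i w → polar q w (ρ (XX i) w) = 0 := by
    intro i w h
    have h1 := q_add (q := q) w (ρ (XX i) w)
    rw [add_eq_zero_zmod2.mp (UW i w h), hq, hq, add_self_zmod2, zero_add] at h1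
    obtain ⟨y, -, e⟩ := h
    rw [← h1, e, Hq]
  have U2 : ∀ i w w', U i w → U i w' → polar q w (ρ (XX i) w') = polar q w' (ρ (XX i) w) := by
    intro i w w' h h'
    have := U1 i (w + w') (by
      obtain ⟨y, hy, rfl⟩ := h
      obtain ⟨y', hy', rfl⟩ := h'
      refine ⟨y + y', ?_, by rw [map_add]; abel⟩
      show _ = _
      simp only [map_add]
      linear_combination (norm := (apply ch2; match_scalars <;> decide)) hy + hy')
    rwa [map_add, polar_add_left, polar_add_right, polar_add_right, U1 i w h, U1 i w' h', zero_add,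
      add_zero, add_eq_zero_zmod2] at this
  have ex : ∀ i, ∃ w w', U i w ∧ U i w' ∧ polar q w (ρ (XX i) w') = 1 := by
    intro i
    obtain ⟨w, hw, h0⟩ : ∃ w, U i w ∧ w ≠ 0 := by
      by_contra hc
      push Not at hc
      obtain ⟨v, hv⟩ := hinj i
      have := dec i _ (W1 i v)
      rw [hc _ ⟨_, WX i i _ (W1 i v), rfl⟩, hc _ ⟨_, WX i i _ (WX i i _ (W1 i v)), rfl⟩] at this
      simp only [map_zero, add_zero] at this
      exact hv ((ρ (XX i)).injective (add_eq_zero_zmod2.mp this)).symm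
    obtain ⟨y, hy⟩ : ∃ y, polar q w y ≠ 0 := by
      by_contra hc
      push Not at hc
      exact h0 (hn.1 w hc)
    have e : y = (ρ (XX i) y + ρ (XX i) (ρ (XX i) y)) + (y + ρ (XX i) y + ρ (XX i) (ρ (XX i) y)) := by
      linear_combination (norm := (apply ch2; match_scalars <;> decide))
    rw [e, polar_add_right, polar_comm _ w (y + _ + _), orth i _ w (by simp only [map_add, rho_X3]; abel)
      (UW i w hw), add_zero, dec i _ (W1 i y), polar_add_right] at hy
    have m1 : U i _ := ⟨_, WX i i _ (W1 i y), rfl⟩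
    have m2 : U i _ := ⟨_, WX i i _ (WX i i _ (W1 i y)), rfl⟩
    rw [← add_eq_zero_zmod2.mp (UW i _ m2), polar_add_right, U0 i _ _ hw m2, zero_add] at hy
    by_cases h : polar q w (ρ (XX i) (ρ (AA i) (ρ (XX i) (ρ (XX i) y + ρ (XX i) (ρ (XX i) y))) +
      ρ (XX i) (ρ (XX i) y + ρ (XX i) (ρ (XX i) y)))) = 0
    · rw [h, zero_add] at hy
      exact ⟨w, _, hw, m2, zmod2_ne_zero.mp hy⟩
    · exact ⟨w, _, hw, m1, zmod2_ne_zero.mp h⟩
  obtain ⟨a, a', ha, ha', e1⟩ := ex 0
  obtain ⟨b, b', hb, hb', e2⟩ := ex 1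
  obtain ⟨c, c', hc, hc', e3⟩ := ex 2
  have o : ∀ i j v w, i ≠ j → W i v → W j w → polar q v w = 0 := fun i j v w hij h h' =>
    orth j v w (fx i j v hij h) h'
  have A : ∀ k : Fin 4, W 0 (![a, a', ρ (XX 0) a, ρ (XX 0) a'] k) := fun k => by
    fin_cases k
    exacts [UW _ _ ha, UW _ _ ha', WX _ _ _ (UW _ _ ha), WX _ _ _ (UW _ _ ha')]
  have B : ∀ k : Fin 4, W 1 (![b, b', ρ (XX 1) b, ρ (XX 1) b'] k) := fun k => by
    fin_cases k
    exacts [UW _ _ hb, UW _ _ hb', WX _ _ _ (UW _ _ hb), WX _ _ _ (UW _ _ hb')]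
  have gram : ∀ i w w', U i w → U i w' → polar q w (ρ (XX i) w') = 1 → ∀ k l : Fin 4,
      polar q (![w, w', ρ (XX i) w, ρ (XX i) w'] k) (![w, w', ρ (XX i) w, ρ (XX i) w'] (Fin.rev l)) =
        if k = l then 1 else 0 := by
    intro i w w' h h' e k l
    have f1 := U0 i _ _ h h'
    have f2 := U1 i _ h
    have f3 := U1 i _ h'
    have f4 := (U2 i _ _ h h').symm.trans e
    have g1 := (polar_comm _ _ _).trans f1
    have g2 := (polar_comm _ _ _).trans f2
    have g3 := (polar_comm _ _ _).trans f3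
    have g4 := (polar_comm _ _ _).trans f4
    have g5 := (polar_comm _ _ _).trans e
    fin_cases k <;> fin_cases l <;>
      simp [-polar_self, Fin.rev, polar_self2, polar_rho hq, f1, f2, f3, f4, g1, g2, g3, g4, g5, e]
  have := eq_zero_of_dual (q := q) hV
    (Fin.append ![a, a', ρ (XX 0) a, ρ (XX 0) a'] ![b, b', ρ (XX 1) b, ρ (XX 1) b'])
    (Fin.append (fun l => ![a, a', ρ (XX 0) a, ρ (XX 0) a'] (Fin.rev l))
      (fun l => ![b, b', ρ (XX 1) b, ρ (XX 1) b'] (Fin.rev l))) (w := c) (fun k l => by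
      refine Fin.addCases (m := 4) (n := 4) (fun k => ?_) (fun k => ?_) k <;>
        refine Fin.addCases (m := 4) (n := 4) (fun l => ?_) (fun l => ?_) l <;>
        simp only [Fin.append_left, Fin.append_right]
      · rw [gram 0 a a' ha ha' e1]; revert k l; decide
      · rw [o 0 1 _ _ (by decide) (A _) (B _), if_neg (by revert k l; decide)]
      · rw [o 1 0 _ _ (by decide) (B _) (A _), if_neg (by revert k l; decide)]
      · rw [gram 1 b b' hb hb' e2]; revert k l; decide) fun l => by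
      refine Fin.addCases (m := 4) (n := 4) (fun l => ?_) (fun l => ?_) l <;>
        simp only [Fin.append_left, Fin.append_right]
      exacts [o 2 0 _ _ (by decide) (UW _ _ hc) (A _), o 2 1 _ _ (by decide) (UW _ _ hc) (B _)]
  rw [this, polar_zero_left] at e3
  exact zero_ne_one e3

end Rep

end CfsgLib.O8R
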