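import Mathlib
import Cfsg.Agent.Lib.O8R.Model

/-! Involution centralizers of shape `2^{1+8} . Sym(3)³`: the weakly closed case and coordinates. -/

set_option autoImplicit false
set_option synthInstance.maxSize 2048
set_option maxRecDepth 100000

namespace CfsgLib.O8R

open CfsgLib.ExtraTwo CfsgLib.LargeExtra CfsgLib.W4 Subgroup QuadraticMap

variable {G : Type*} [Group G]

/-- the action on triples -/
@[reducible] def actI : MulAction SS I3 where
  smul := ap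
  one_smul := ap_one
  mul_smul := ap_mul

theorem card_le_eight {T : Subgroup SS} (h : IsPGroup 2 T) : Nat.card T ≤ 8 := by
  obtain ⟨k, hk⟩ := IsPGroup.iff_card.mp h
  have h1 := T.card_subgroup_dvd_card
  rw [hk, show Nat.card SS = 8 * 27 by simp [Fintype.card_perm, Nat.factorial]] at h1
  rw [hk]
  exact Nat.le_of_dvd (by norm_num) ((Nat.Coprime.pow_left k (by norm_num)).dvd_of_dvd_mul_right h1)

theorem exists_stab {T : Subgroup SS} (h : IsPGroup 2 T) (h8 : 8 ≤ Nat.card T) :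
    ∃ j, ∀ g, ap g j = j ↔ g ∈ T := by
  let _ := actI
  obtain ⟨j, hj⟩ := h.nonempty_fixed_point_of_prime_not_dvd_card I3 (by simp)
  have h1 : T ≤ MulAction.stabilizer SS j := fun g hg => hj ⟨g, hg⟩
  have h2 : IsPGroup 2 (MulAction.stabilizer SS j) := fun g => ⟨1, Subtype.ext (by
    have : ∀ (g : SS) j, ap g j = j → g ^ 2 ^ 1 = 1 := by decide +kernel
    exact this g j g.2)⟩
  have := eq_of_le_of_card_ge h1 ((card_le_eight h2).trans h8)
  exact ⟨j, fun g => by rw [this]; rfl⟩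

theorem ap_AA : ∀ i, ap (AA i) 0 = 0 := by decide +kernel

theorem XX_ne : ∀ i, XX i ≠ 1 := by decide +kernel

theorem ap_conj {j : I3} {g : SS} (h : ap g 0 = 0) : ap (xs j * g * (xs j)⁻¹) j = j := by
  rw [ap_mul, ap_mul, ap_inv_eq (ap_xs0 j), h, ap_xs0]

theorem ap_conj' {j : I3} {g : SS} (h : ap g j = j) : ap ((xs j)⁻¹ * g * xs j) 0 = 0 := by
  rw [ap_mul, ap_mul, ap_xs0, h, ap_inv_eq (ap_xs0 j)]

theorem PT_inj : ∀ α β, PT α = PT β → α = β := by decide +kernel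

theorem PT_ne : ∀ α, PT α ≠ 0 := by decide +kernel

structure St (Q : Subgroup G) (z : G) (F : G → SS) : Prop where
  pre : Pre Q z
  card : Nat.card Q = 512
  mul : ∀ a b, a * z = z * a → b * z = z * b → F (a * b) = F a * F b
  surj : ∀ σ, ∃ m, m * z = z * m ∧ F m = σ
  ker : ∀ m, m * z = z * m → (F m = 1 ↔ m ∈ Q)

theorem cz_mul {a b z : G} (ha : a * z = z * a) (hb : b * z = z * b) : a * b * z = z * (a * b) :=
  (Commute.mul_left ha hb : Commute (a * b) z)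

theorem cz_inv {a z : G} (ha : a * z = z * a) : a⁻¹ * z = z * a⁻¹ := (Commute.inv_left ha : Commute a⁻¹ z)

theorem cz_conj {a b z : G} (ha : a * z = z * a) (hb : b * z = z * b) :
    a * b * a⁻¹ * z = z * (a * b * a⁻¹) := cz_mul (cz_mul ha hb) (cz_inv ha)

namespace St

variable {Q : Subgroup G} {z : G} {F : G → SS}

/-- the homomorphism -/
def hom (h : St Q z F) : centralizer ({z} : Set G) →* SS :=
  MonoidHom.mk' (fun m => F m) fun a b => h.mul a b (mem_cent.mp a.2) (mem_cent.mp b.2)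

theorem hom_ker (h : St Q z F) (g : centralizer ({z} : Set G)) : h.hom g = 1 ↔ (g : G) ∈ Q :=
  h.ker g (mem_cent.mp g.2)

theorem cq (h : St Q z F) {x : G} (hx : x ∈ Q) : x * z = z * x := h.pre.es.comm_z x hx

theorem FQ (h : St Q z F) {x : G} (hx : x ∈ Q) : F x = 1 := (h.ker x (h.cq hx)).mpr hx

theorem inv (h : St Q z F) {a : G} (ha : a * z = z * a) : F a⁻¹ = (F a)⁻¹ := by
  rw [eq_inv_iff_mul_eq_one, ← h.mul _ _ (cz_inv ha) ha, inv_mul_cancel, h.FQ (one_mem _)]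

theorem conjF (h : St Q z F) {a b : G} (ha : a * z = z * a) (hb : b * z = z * b) :
    F (a * b * a⁻¹) = F a * F b * (F a)⁻¹ := by
  rw [h.mul _ _ (cz_mul ha hb) (cz_inv ha), h.mul _ _ ha hb, h.inv ha]

theorem mem_of_eq (h : St Q z F) {a b : G} (ha : a * z = z * a) (hb : b * z = z * b) (e : F a = F b) :
    a⁻¹ * b ∈ Q := by
  rw [← h.ker _ (cz_mul (cz_inv ha) hb), h.mul _ _ (cz_inv ha) hb, h.inv ha, e, inv_mul_cancel]

theorem twist (h : St Q z F) (k : SS) : St Q z fun x => k⁻¹ * F x * k :=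
  ⟨h.pre, h.card, fun a b ha hb => by rw [h.mul a b ha hb]; group,
    fun σ => let ⟨m, hm, e⟩ := h.surj (k * σ * k⁻¹); ⟨m, hm, by rw [e]; group⟩,
    fun m hm => by rw [← h.ker m hm, mul_assoc, inv_mul_eq_one, right_eq_mul]⟩

theorem conj (h : St Q z F) (g : G) :
    St (Q.map (MulAut.conj g).toMonoidHom) (g * z * g⁻¹) fun x => F (g⁻¹ * x * g) := by
  have k : ∀ a, a * (g * z * g⁻¹) = g * z * g⁻¹ * a → g⁻¹ * a * g * z = z * (g⁻¹ * a * g) := fun a e => by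
    calc g⁻¹ * a * g * z = g⁻¹ * (a * (g * z * g⁻¹)) * g := by group
      _ = _ := by rw [e]; group
  refine ⟨h.pre.conj g, (card_map_conj Q g).trans h.card, fun a b ha hb => ?_, fun σ => ?_,
    fun m hm => (h.ker _ (k m hm)).trans mem_map_conj.symm⟩
  · rw [← h.mul _ _ (k a ha) (k b hb)]; congr 1; group
  · obtain ⟨m, hm, e⟩ := h.surj σ
    refine ⟨g * m * g⁻¹, ?_, by rw [← e]; congr 1; group⟩
    calc g * m * g⁻¹ * (g * z * g⁻¹) = g * (m * z) * g⁻¹ := by group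
      _ = _ := by rw [hm]; group

theorem exists_rep [Finite G] (h : St Q z F) {V : Type*} [AddCommGroup V] [Module (ZMod 2) V]
    {q : QuadraticForm (ZMod 2) V} {π : G → V} (c : Coord Q z q π) :
    ∃ ρ : SS →* (V ≃ₗ[ZMod 2] V), (∀ m, m * z = z * m → ∀ x ∈ Q, ρ (F m) (π x) = π (m * x * m⁻¹)) ∧
      (∀ g v, q (ρ g v) = q v) ∧ ∀ g, ρ g = 1 → g = 1 := by
  obtain ⟨ρ, h1, h2, h3⟩ := h.pre.exists_act c
  have hs : Function.Surjective h.hom := fun σ =>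
    let ⟨m, hm, e⟩ := h.surj σ; ⟨⟨m, mem_cent.mpr hm⟩, e⟩
  have hk : h.hom.ker ≤ ρ.ker := fun g hg => (h3 g).mpr ((h.hom_ker g).mp hg)
  have h5 : ∀ g, h.hom.liftOfSurjective hs ⟨ρ, hk⟩ (h.hom g) = ρ g := fun g =>
    MonoidHom.liftOfRightInverse_comp_apply _ _ _ _ g
  refine ⟨h.hom.liftOfSurjective hs ⟨ρ, hk⟩, fun m hm x hx => ?_, fun g v => ?_, fun g e => ?_⟩
  · exact (congrArg (fun φ => φ (π x)) (h5 ⟨m, mem_cent.mpr hm⟩)).trans (h1 _ x hx)
  · obtain ⟨m, rfl⟩ := hs g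
    rw [h5, h2]
  · obtain ⟨m, rfl⟩ := hs g
    rw [h5, h3] at e
    exact (h.hom_ker m).mpr e

theorem card_V (h : St Q z F) {V : Type*} [AddCommGroup V] [Module (ZMod 2) V]
    {q : QuadraticForm (ZMod 2) V} {π : G → V} (c : Coord Q z q π) : Nat.card V = 256 := by
  have := c.card_eq
  rw [h.card] at this
  omega

/-- the image of `C_{Q1}(z)` -/
def img (h : St Q z F) (Q1 : Subgroup G) : Subgroup SS :=
  (Q1.subgroupOf (centralizer ({z} : Set G))).map h.hom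

theorem mem_img (h : St Q z F) {Q1 : Subgroup G} {σ : SS} :
    σ ∈ h.img Q1 ↔ ∃ r ∈ Q1, r * z = z * r ∧ F r = σ :=
  ⟨fun ⟨r, hr, e⟩ => ⟨r, hr, mem_cent.mp r.2, e⟩, fun ⟨r, hr, h1, e⟩ => ⟨⟨r, mem_cent.mpr h1⟩, hr, e⟩⟩

theorem img_two (h : St Q z F) {Q1 : Subgroup G} (h1 : IsPGroup 2 Q1) : IsPGroup 2 (h.img Q1) :=
  (h1.comap_of_injective _ (centralizer ({z} : Set G)).subtype_injective).map _

end St

section WC

variable [Finite G] {Q Q1 : Subgroup G} {z s : G} {F F1 : G → SS}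

theorem wc_type (p : WP Q Q1 z s) (h : St Q z F) (h1 : St Q1 s F1) {V : Type*} [AddCommGroup V]
    [Module (ZMod 2) V] {q : QuadraticForm (ZMod 2) V} {π : G → V} {σ : V →ₗ[ZMod 2] V}
    (c : Coord Q z q π) (hσ : ∀ x ∈ Q, σ (π x) = π (s * x * s⁻¹)) :
    ¬ Phi Q z s ∧ Nat.card (Q ⊓ Q1 : Subgroup G) = 4 ∧ 8 ≤ Nat.card (h1.img Q) ∧
      ∀ v, σ v = v → ∃ w, σ w + w = v := by
  have := c.finite
  have k1 : Nat.card (Q1 ⊓ Q : Subgroup G) * Nat.card (h1.img Q) = _ := p.symm.card_B h1.hom h1.hom_ker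
  have k2 := card_le_eight (h1.img_two h.pre.es.isPGroup)
  have k3 := p.card_le_sq c hσ
  have k4 := card_ker_mul_range (σ + LinearMap.id)
  rw [h.card_V c] at k3 k4
  rw [inf_comm] at k1
  have k5 : 16 ≤ Nat.card (LinearMap.ker (σ + LinearMap.id)) := by nlinarith
  have free : Nat.card (LinearMap.ker (σ + LinearMap.id)) ≤ 16 → ∀ v, σ v = v → ∃ w, σ w + w = v := by
    intro hc v hv
    have hle : LinearMap.range (σ + LinearMap.id) ≤ LinearMap.ker (σ + LinearMap.id) := by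
      rintro _ ⟨v, rfl⟩
      simp [p.σ_σ c hσ, add_comm, add_self_zmod2]
    have e : (LinearMap.range (σ + LinearMap.id) : Set V) = LinearMap.ker (σ + LinearMap.id) :=
      Set.eq_of_subset_of_ncard_le hle (by
        change Nat.card (LinearMap.ker (σ + LinearMap.id)) ≤ Nat.card (LinearMap.range (σ + LinearMap.id))
        rw [le_antisymm hc k5] at k4 ⊢; omega)
    exact e.ge (show v ∈ LinearMap.ker (σ + LinearMap.id) by simp [hv, add_self_zmod2])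
  by_cases hφ : Phi Q z s
  · exfalso
    have k6 := p.card_D_le_two hφ
    rw [p.card_A_one hφ c hσ] at k1
    have k7 : Nat.card (Q ⊓ Q1 : Subgroup G) ≠ 1 := fun e => by rw [e] at k1; omega
    obtain ⟨⟨d, hd, hd1⟩, hne⟩ : ∃ d : (Q ⊓ Q1 : Subgroup G), d ≠ 1 := by
      by_contra hc
      push Not at hc
      exact k7 (Nat.card_eq_one_iff_exists.mpr ⟨1, hc⟩)
    obtain ⟨w, hw⟩ := free (by nlinarith) (π d) ((p.fixed_iff c hσ hd).mpr
      (Or.inl (conj_eq_of_comm (p.D_comm_s hd1).symm)))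
    obtain ⟨x, hx, rfl⟩ := c.surj w
    exact hne (Subtype.ext (p.D_inf_N hφ hd1 hx
      ((c.eq_iff (p.nn_mem hx) hd).mp (by rw [p.π_nn c hσ hx, hw]))))
  · have k6 := p.card_D_le_four hφ
    rw [p.card_A_zero hφ c hσ] at k1
    exact ⟨hφ, by nlinarith, by nlinarith, free (by nlinarith)⟩

theorem wc_false (p : WP Q Q1 z s) (h : St Q z F) (h1 : St Q1 s F1) : False := by
  obtain ⟨n, q, π, σ, c, hσ⟩ := p.exists_coord
  obtain ⟨n', q', π', σ', c', hσ'⟩ := p.symm.exists_coord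
  obtain ⟨hφ, h4, -, free⟩ := wc_type p h h1 c hσ
  obtain ⟨-, -, h8, -⟩ := wc_type p.symm h1 h c' hσ'
  obtain ⟨j, hj⟩ := exists_stab (h.img_two h1.pre.es.isPGroup) h8
  obtain ⟨ρ, r1, r2, r3⟩ := (h.twist (xs j)).exists_rep c
  have hb : ∀ i v, ρ (AA i) (σ v + v) = σ v + v := fun i v => by
    obtain ⟨b, hb, hbz, e⟩ := h.mem_img.mp ((hj (xs j * AA i * (xs j)⁻¹)).mp (ap_conj (ap_AA i)))
    obtain ⟨x, hx, rfl⟩ := c.surj v
    have := r1 b hbz _ (p.nn_mem hx)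
    rw [e, p.B_comm_nn hφ (by omega) hb hbz hx, mul_inv_cancel_right, p.π_nn c hσ hx] at this
    simpa [mul_assoc] using this
  have hN : ∀ i v, ∃ w, σ w + w = ρ (AA i) v + v := fun i v =>
    exists_of_perp c.nondegenerate (p.q_σ c hσ) fun u hu => by
      obtain ⟨w, rfl⟩ := free u hu
      exact polar_fixed (σ := (ρ (AA i)).toLinearMap) (r2 _) (hb i w) v
  refine la2 (h.card_V c) c.nondegenerate r2 (fun i => ?_) (fun i j v => ?_) fun i v => ?_
  · by_contra hc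
    push Not at hc
    exact absurd (r3 _ (LinearEquiv.ext hc)) (XX_ne i)
  · obtain ⟨w, e⟩ := hN i v
    rw [← e, hb]
  · obtain ⟨w, e⟩ := hN i v
    rw [← e, p.q_N hφ c hσ]

end WC

section Pair

variable {Q Q1 : Subgroup G} {z t : G} {F : G → SS}

theorem card_Q1 [Finite G] (p : Pair Q Q1 z t) (hc : IsConj z t) : Nat.card Q1 = Nat.card Q := by
  obtain ⟨g, e⟩ := isConj_iff.mp hc
  rw [← card_map_conj Q g]
  congr 2
  ext x
  rw [mem_map_conj]
  refine ⟨fun hx => ?_, fun hx => ?_⟩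
  · simpa using p.conj' g⁻¹ (by rw [← e]; group) x hx
  · simpa [mul_assoc] using p.conj g e _ hx

theorem pair_card [Finite G] (h : St Q z F) (p : Pair Q Q1 z t) (hc : IsConj z t) :
    Nat.card (Q ⊓ Q1 : Subgroup G) = 32 ∧ 8 ≤ Nat.card (h.img Q1) := by
  have k1 : 2 * (_ * Nat.card (h.img Q1)) = _ := p.card_E_mul_card_map h.hom h.hom_ker
  have k2 := card_le_eight (h.img_two p.h1.es.isPGroup)
  have k3 := p.card_E_sq_le
  rw [card_Q1 p hc, h.card] at *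
  have k4 : Nat.card (Q ⊓ Q1 : Subgroup G) ≤ 32 := by nlinarith
  constructor <;> nlinarith

/-- coordinates at `z` adapted to `t` -/
structure Fm (Q Q1 : Subgroup G) (z t : G) (F : G → SS) (q : QuadraticForm (ZMod 2) V8)
    (π : G → V8) : Prop where
  st : St Q z F
  pr : Pair Q Q1 z t
  conj : IsConj z t
  c : Coord Q z q π
  hb : ∀ v w, polar q v w = b8 v w
  act : ∀ m, m * z = z * m → ∀ x ∈ Q, π (m * x * m⁻¹) = r8 (F m) (π x)
  πt : π t = PT 0
  R : ∀ σ, ap σ 0 = 0 → ∃ r ∈ Q1, r * z = z * r ∧ F r = σ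

theorem exists_fm [Finite G] (h : St Q z F) (p : Pair Q Q1 z t) (hc : IsConj z t) :
    ∃ F q π, Fm Q Q1 z t F q π := by
  obtain ⟨hE, h8⟩ := pair_card h p hc
  obtain ⟨j, hj⟩ := exists_stab (h.img_two p.h1.es.isPGroup) h8
  have h' := h.twist (xs j)
  set F' := fun x => (xs j)⁻¹ * F x * xs j with hF'
  have hR : ∀ σ, ap σ 0 = 0 ↔ σ ∈ h'.img Q1 := fun σ => by
    rw [h'.mem_img]
    refine ⟨fun e => ?_, ?_⟩
    · obtain ⟨r, hr, h1, h2⟩ := h.mem_img.mp ((hj _).mp (ap_conj e))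
      exact ⟨r, hr, h1, by simp [hF', h2, mul_assoc]⟩
    · rintro ⟨r, hr, h1, rfl⟩
      exact ap_conj' ((hj _).mpr (h.mem_img.mpr ⟨r, hr, h1, rfl⟩))
  obtain ⟨n, q, π, c⟩ := h.pre.es.exists_coord
  obtain ⟨ρ, r1, r2, -⟩ := h'.exists_rep c
  have := c.finite
  obtain ⟨φ, f1, f2, f3⟩ := la1 (h.card_V c) c.nondegenerate r2 (t := π t) (fun g => by
      obtain ⟨m, hm, rfl⟩ := h'.surj g
      rw [r1 m hm t p.tQ]
      refine ⟨fun e => ?_, fun e => ?_⟩
      · have d : ∀ g : SS, (∀ i, ap (g * AA i * g⁻¹) 0 = 0) → ap g 0 = 0 := by decide +kernel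
        exact d _ fun i => (hR _).mpr (p.map_conj_mem h'.hom h'.hom_ker ⟨m, mem_cent.mpr hm⟩
          ((c.eq_iff p.tQ (h.pre.norm m hm t p.tQ)).mp e.symm) ((hR _).mp (ap_AA i)))
      · obtain ⟨r, hr, h1, h2⟩ := h'.mem_img.mp ((hR _).mp e)
        rw [← r1 m hm t p.tQ, ← h2, r1 r h1 t p.tQ, conj_eq_of_comm (p.h1.es.comm_z r hr)])
    fun g e hg => by
      obtain ⟨r, hr, h1, rfl⟩ := h'.mem_img.mp ((hR _).mp e)
      obtain ⟨x, hx, hne⟩ : ∃ x ∈ Q ⊓ Q1, r * x ≠ x * r := by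
        by_contra hcon
        push Not at hcon
        have k1 := card_mul_card_centralizer p.h1.es (P := Q ⊓ Q1) inf_le_right ⟨p.tQ, p.h1.es.mem⟩
        rw [hE, card_Q1 p hc, h.card] at k1
        have k2 := eq_of_le_of_card_ge (H := Q ⊓ Q1)
          (K := Q1 ⊓ centralizer ((Q ⊓ Q1 : Subgroup G) : Set G))
          (fun x hx => ⟨hx.2, fun y hy => p.E_comm hy hx⟩) (by omega)
        exact hg (h'.FQ (k2.ge ⟨hr, fun y hy => (hcon y hy).symm⟩).1)
      refine ⟨π x, ?_⟩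
      rw [r1 r h1 x hx.1, p.h1.es.conj_of_ne hx.2 hr hne, c.map_mul _ hx.1 _ p.tQ, add_comm (π x),
        add_assoc, add_self_zmod2, add_zero]
  refine ⟨F', q.comp φ.symm.toLinearMap, fun x => φ (π x), h', p, hc, c.congr φ fun v => by simp,
    fun v w => ?_, fun m hm x hx => by rw [← r1 m hm x hx, f2], f3,
    fun σ e => h'.mem_img.mp ((hR σ).mp e)⟩
  have := f1 (φ.symm v) (φ.symm w)
  rw [φ.apply_symm_apply, φ.apply_symm_apply] at this
  rw [← this]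
  simp [polar]

namespace Fm

variable {q : QuadraticForm (ZMod 2) V8} {π : G → V8}

theorem es (h : Fm Q Q1 z t F q π) : ES Q z := h.c.es

theorem comm_iff (h : Fm Q Q1 z t F q π) {x y : G} (hx : x ∈ Q) (hy : y ∈ Q) :
    x * y = y * x ↔ b8 (π x) (π y) = 0 := by rw [← h.hb, h.c.polar_iff hx hy]

theorem norm (h : Fm Q Q1 z t F q π) {m x : G} (hm : m * z = z * m) (hx : x ∈ Q) : m * x * m⁻¹ ∈ Q :=
  h.st.pre.norm m hm x hx

theorem fix (h : Fm Q Q1 z t F q π) {m x : G} (hm : m * z = z * m) (hx : x ∈ Q) (e : m * x = x * m) :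
    r8 (F m) (π x) = π x := by rw [← h.act m hm x hx, conj_eq_of_comm e]

theorem ap_of_comm (h : Fm Q Q1 z t F q π) {m : G} (hm : m * z = z * m) (e : m * t = t * m) :
    ap (F m) 0 = 0 := PT_inj _ _ (by rw [← r8_PT, ← h.πt, h.fix hm h.pr.tQ e])

theorem ne_of_PT (h : Fm Q Q1 z t F q π) {x : G} (hx : x ∈ Q) {α : I3} (e : π x = PT α) :
    x ≠ 1 ∧ x ≠ z := by
  have := mt (h.c.ker x hx).mpr (e ▸ PT_ne α)
  push Not at this
  exact this

/-- elements over pure tensors are conjugate to `t` in `C(z)` -/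
theorem exists_conj_t (h : Fm Q Q1 z t F q π) {x : G} (hx : x ∈ Q) {α : I3} (e : π x = PT α) :
    ∃ m, m * z = z * m ∧ F m = xs α ∧ m * t * m⁻¹ = x := by
  obtain ⟨m, hm, hF⟩ := h.st.surj (xs α)
  have h1 : π (m * t * m⁻¹) = π x := by rw [h.act m hm t h.pr.tQ, hF, h.πt, r8_PT, ap_xs0, e]
  rcases (h.c.eq_iff (h.norm hm h.pr.tQ) hx).mp h1 with e1 | e1
  · exact ⟨m, hm, hF, e1.symm⟩
  · obtain ⟨a, ha, h2, h3⟩ := h.pr.exists_a
    refine ⟨m * a, cz_mul hm (h.st.cq ha), by rw [h.st.mul _ _ hm (h.st.cq ha), hF, h.st.FQ ha, mul_one], ?_⟩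
    rw [e1, show m * a * t * (m * a)⁻¹ = m * (a * t * a⁻¹) * m⁻¹ by group, h3, ← mul_assoc m,
      mul_assoc _ z, ← cz_inv hm, ← mul_assoc]

theorem isConj_of_PT (h : Fm Q Q1 z t F q π) {x : G} (hx : x ∈ Q) {α : I3} (e : π x = PT α) :
    IsConj z x :=
  let ⟨m, _, _, e⟩ := h.exists_conj_t hx e; h.conj.trans (isConj_iff.mpr ⟨m, e⟩)

theorem PT_of_isConj [Finite G] (h : Fm Q Q1 z t F q π) {x : G} (hx : x ∈ Q) (hc : IsConj z x)
    (hne : x ≠ z) : ∃ α, π x = PT α := by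
  obtain ⟨g, rfl⟩ := isConj_iff.mp hc
  have p := h.st.pre.pair (by rw [h.st.card]; norm_num) hx hne
  obtain ⟨j, hj⟩ := exists_stab (h.st.img_two p.h1.es.isPGroup) (pair_card h.st p hc).2
  obtain ⟨m, hm, hF⟩ := h.st.surj (xs j)
  have d : ∀ v : V8, (∀ i, r8 (AA i) v = v) → v = 0 ∨ v = PT 0 := by decide +kernel
  have hx' := h.norm (cz_inv hm) hx
  rcases d (π (m⁻¹ * (g * z * g⁻¹) * m⁻¹⁻¹)) (fun i => by
    obtain ⟨r, hr, h1, h2⟩ := h.st.mem_img.mp ((hj _).mp (ap_conj (ap_AA i)))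
    have := h.fix (cz_conj (cz_inv hm) h1) hx' (by
      calc m⁻¹ * r * m⁻¹⁻¹ * (m⁻¹ * (g * z * g⁻¹) * m⁻¹⁻¹) = m⁻¹ * (r * (g * z * g⁻¹)) * m := by group
        _ = _ := by rw [p.h1.es.comm_z r hr]; group)
    rwa [h.st.conjF (cz_inv hm) h1, h.st.inv hm, hF, h2,
      show (xs j)⁻¹ * (xs j * AA i * (xs j)⁻¹) * (xs j)⁻¹⁻¹ = AA i by group] at this) with e | e
  · exfalso
    rcases (h.c.ker _ hx').mp e with e | e
    · exact p.t_ne_one (conj_eq_one_iff.mp e)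
    · exact hne (by
        calc g * z * g⁻¹ = m * (m⁻¹ * (g * z * g⁻¹) * m⁻¹⁻¹) * m⁻¹ := by group
          _ = z := by rw [e, conj_eq_of_comm hm])
  · refine ⟨j, ?_⟩
    have := h.act m hm _ hx'
    rw [e, hF, r8_PT, ap_xs0] at this
    rw [← this]; congr 1; group

theorem flip [Finite G] (h : Fm Q Q1 z t F q π) : ∃ Q2, Fm Q Q2 z (t * z) F q π := by
  obtain ⟨g, e⟩ := isConj_iff.mp h.conj
  obtain ⟨a, ha, h2, h3⟩ := h.pr.exists_a
  have e' : a * g * z * (a * g)⁻¹ = t * z := by rw [← h3, ← e]; group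
  have p := h.st.pre.pair (by rw [h.st.card]; norm_num) (g := a * g)
    (e' ▸ Q.mul_mem h.pr.tQ h.es.mem) (by rw [e']; exact fun k => h.pr.t_ne_one (mul_eq_right.mp k))
  rw [e'] at p
  refine ⟨_, h.st, p, isConj_iff.mpr ⟨_, e'⟩, h.c, h.hb, h.act, by rw [h.c.map_mul_z h.pr.tQ, h.πt],
    fun σ hσ => ?_⟩
  obtain ⟨r, hr, h4, h5⟩ := h.R σ hσ
  refine ⟨a * r * a⁻¹, mem_map_conj.mpr ?_, cz_conj (h.st.cq ha) h4, by
    rw [h.st.conjF (h.st.cq ha) h4, h.st.FQ ha, h5]; simp⟩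
  simpa [mul_assoc] using h.pr.conj' g⁻¹ (by rw [← e]; group) r hr

/-- an involution acting freely: the coset is controlled by `Q`-conjugation -/
theorem conj_or (h : Fm Q Q1 z t F q π) {r w x : G} (hr : r * z = z * r) (hr2 : r * r = 1)
    (hw : w ∈ Q) (hx : x ∈ Q) (e : r8 (F r) (π x) + π x = π w) :
    r * w = x⁻¹ * r * x ∨ r * w = x⁻¹ * r * x * z := by
  have h1 : x⁻¹ * r * x = r * (r * x⁻¹ * r⁻¹ * x) := by
    rw [inv_eq_of_mul_eq_one_right hr2, mul_assoc r, mul_assoc r, ← mul_assoc r r, hr2, one_mul]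
  have h2 := h.norm hr (Q.inv_mem hx)
  rw [h1, mul_assoc r _ z, mul_right_inj, mul_right_inj, ← h.c.eq_iff (Q.mul_mem h2 hx) hw,
    h.c.map_mul _ h2 _ hx, h.act r hr _ (Q.inv_mem hx), h.c.map_inv hx, e]

theorem exists_conj_or (h : Fm Q Q1 z t F q π) {r y : G} (hr : r * z = z * r) (hr2 : r * r = 1)
    (h0 : ap (F r) 0 = 0) (h1 : F r ≠ 1) (hy : y * z = z * y) (e : F r = F y)
    (hy2 : y * y = 1 ∨ y * y = z) : ∃ x ∈ Q, y = x⁻¹ * r * x ∨ y = x⁻¹ * r * x * z := by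
  have d : ∀ σ : SS, ap σ 0 = 0 → σ ≠ 1 → ∃ i, ∀ w, r8 σ w = w →
    r8 σ (r8 (XX i) w) + r8 (XX i) w = w := by decide +kernel
  obtain ⟨i, hi⟩ := d _ h0 h1
  have hw := h.st.mem_of_eq hr hy e
  obtain ⟨x, hx, e1⟩ := h.c.surj (r8 (XX i) (π (r⁻¹ * y)))
  have := h.conj_or hr hr2 hw hx (by
    rw [e1]
    apply hi
    rw [← h.act r hr _ hw, ← add_eq_zero_zmod2, ← h.c.map_mul _ (h.norm hr hw) _ hw,
      h.c.ker _ (Q.mul_mem (h.norm hr hw) hw)]
    rwa [show r * (r⁻¹ * y) * r⁻¹ * (r⁻¹ * y) = y * (r * r)⁻¹ * y by group, hr2, inv_one, mul_one])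
  exact ⟨x, hx, by rwa [mul_inv_cancel_left] at this⟩

end Fm

end Pair

end CfsgLib.O8R
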