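import Mathlib
import Cfsg.Agent.Lib.O8R.Setup

/-! A complement `Sym(3)³` to `Q` in `C(z)` generated by conjugates of `z`. -/

set_option autoImplicit false
set_option synthInstance.maxSize 2048
set_option Elab.async false

namespace CfsgLib.O8R

open CfsgLib.ExtraTwo CfsgLib.LargeExtra CfsgLib.W4 Subgroup QuadraticMap

variable {G : Type*} [Group G]

theorem exists_hom_S3 {x a : G} (hx : x * x * x = 1) (ha : a * a = 1) (h : a * x * a⁻¹ = x⁻¹) :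
    ∃ φ : S3 →* G, φ (Equiv.addRight 1) = x ∧ φ (Equiv.swap 1 2) = a := by
  have xi : x⁻¹ = x * x := (eq_inv_of_mul_eq_one_left hx).symm
  have h1 : a * x = x * x * a := by rw [← xi, ← h]; group
  have h2 : a * (x * x) = x * a := by
    rw [← mul_assoc, h1, mul_assoc, h1, show x * x * (x * x * a) = x * x * x * x * a by group, hx, one_mul]
  have h3 : x * (x * x) = 1 := by rw [← mul_assoc, hx]
  have h4 : x * x * (x * x) = x := by rw [← mul_assoc, hx, one_mul]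
  have add : ∀ k l : Fin 3, x ^ (k + l).val = x ^ k.val * x ^ l.val := by
    intro k l; fin_cases k <;> fin_cases l <;> simp [pow_two, hx, h3, h4]
  have neg : ∀ k : Fin 3, a * x ^ k.val = x ^ (-k).val * a := by
    intro k; fin_cases k <;> simp [pow_two, h1, h2, show (-2 : Fin 3) = 1 from rfl]
  have d : ∀ σ τ : S3, (σ * τ) 0 = (σ 0 + if σ 1 = σ 0 + 1 then τ 0 else -τ 0) ∧
    ((σ * τ) 1 = (σ * τ) 0 + 1 ↔ (σ 1 = σ 0 + 1 ↔ τ 1 = τ 0 + 1)) := by decide +kernel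
  refine ⟨MonoidHom.mk' (fun σ => x ^ (σ 0).val * if σ 1 = σ 0 + 1 then 1 else a) fun σ τ => ?_, ?_, ?_⟩
  · simp only [(d σ τ).2]
    rw [(d σ τ).1, add]
    by_cases e : σ 1 = σ 0 + 1 <;> by_cases e' : τ 1 = τ 0 + 1 <;>
      simp only [e, e', if_true, if_false, iff_true, iff_false, not_true, mul_one, mul_assoc]
    · rw [neg]
    · rw [← mul_assoc a, neg, mul_assoc, ha, mul_one]
  · show x ^ 1 * 1 = x
    simp
  · show x ^ 0 * a = a
    simp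

theorem indS3 {p : S3 → Prop} (h1 : p (Equiv.addRight 1)) (h2 : p (Equiv.swap 1 2))
    (h3 : ∀ a b, p a → p b → p (a * b)) (σ : S3) : p σ := by
  have : ∀ σ : S3, σ = Equiv.addRight 1 ∨ σ = Equiv.swap 1 2 ∨ σ = Equiv.addRight 1 * Equiv.addRight 1 ∨
    σ = Equiv.swap 1 2 * Equiv.swap 1 2 ∨ σ = Equiv.addRight 1 * Equiv.swap 1 2 ∨
    σ = Equiv.swap 1 2 * Equiv.addRight 1 := by decide +kernel
  rcases this σ with e | e | e | e | e | e <;> rw [e]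
  exacts [h1, h2, h3 _ _ h1 h1, h3 _ _ h2 h2, h3 _ _ h1 h2, h3 _ _ h2 h1]

theorem indSS {p : SS → Prop} (h1 : ∀ i, p (XX i)) (h2 : ∀ i, p (AA i))
    (h3 : ∀ a b, p a → p b → p (a * b)) (σ : SS) : p σ := by
  obtain ⟨a, b, c⟩ := σ
  have e : ((a, b, c) : SS) = (a, 1, 1) * ((1, b, 1) * (1, 1, c)) := by simp
  have d : XX 0 = (Equiv.addRight 1, 1, 1) ∧ XX 1 = (1, Equiv.addRight 1, 1) ∧
    XX 2 = (1, 1, Equiv.addRight 1) := by decide +kernel
  rw [e]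
  refine h3 _ _ ?_ (h3 _ _ ?_ ?_)
  · exact indS3 (p := fun a => p (a, 1, 1)) (d.1 ▸ h1 0) (h2 0) (fun a b h h' => by simpa using h3 _ _ h h') a
  · exact indS3 (p := fun a => p (1, a, 1)) (d.2.1 ▸ h1 1) (h2 1) (fun a b h h' => by simpa using h3 _ _ h h') b
  · exact indS3 (p := fun a => p (1, 1, a)) (d.2.2 ▸ h1 2) (h2 2) (fun a b h h' => by simpa using h3 _ _ h h') c

theorem exists_hom_SS {x a : Fin 3 → G} (hx : ∀ i, x i * x i * x i = 1) (ha : ∀ i, a i * a i = 1)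
    (h : ∀ i, a i * x i * (a i)⁻¹ = (x i)⁻¹) (c1 : ∀ i j, Commute (x i) (x j))
    (c2 : ∀ i j, i ≠ j → Commute (a i) (x j)) (c3 : ∀ i j, Commute (a i) (a j)) :
    ∃ l : SS →* G, ∀ i, l (XX i) = x i ∧ l (AA i) = a i := by
  choose φ h1 h2 using fun i => exists_hom_S3 (hx i) (ha i) (h i)
  have c : ∀ i j, i ≠ j → ∀ σ τ, Commute (φ i σ) (φ j τ) := fun i j hij σ τ => by
    induction σ using indS3 with
    | h1 =>
      induction τ using indS3 with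
      | h1 => rw [h1, h1]; exact c1 i j
      | h2 => rw [h1, h2]; exact (c2 j i hij.symm).symm
      | h3 a b ha hb => rw [map_mul]; exact ha.mul_right hb
    | h2 =>
      induction τ using indS3 with
      | h1 => rw [h1, h2]; exact c2 i j hij
      | h2 => rw [h2, h2]; exact c3 i j
      | h3 a b ha hb => rw [map_mul]; exact ha.mul_right hb
    | h3 a b ha hb => rw [map_mul]; exact ha.mul_left hb
  have d : XX 0 = (Equiv.addRight 1, 1, 1) ∧ XX 1 = (1, Equiv.addRight 1, 1) ∧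
    XX 2 = (1, 1, Equiv.addRight 1) := by decide +kernel
  refine ⟨MonoidHom.mk' (fun σ => φ 0 σ.1 * (φ 1 σ.2.1 * φ 2 σ.2.2)) fun σ τ => ?_, fun i => ?_⟩
  · simp only [Prod.fst_mul, Prod.snd_mul, map_mul]
    rw [(c 1 2 (by decide) τ.2.1 σ.2.2).mul_mul_mul_comm, ((c 0 1 (by decide) τ.1 σ.2.1).mul_right
      (c 0 2 (by decide) τ.1 σ.2.2)).mul_mul_mul_comm]
  · fin_cases i <;> simp [d.1, d.2.1, d.2.2, AA, h1, h2]

theorem St.exists_lifts [Finite G] {Q : Subgroup G} {z : G} {F : G → SS} (h : St Q z F) :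
    ∃ x s : Fin 3 → G, (∀ i, x i * z = z * x i ∧ F (x i) = XX i) ∧ (∀ i, s i * z = z * s i ∧ F (s i) = AA i) ∧
      (∀ i, x i * x i * x i = 1) ∧ (∀ i, s i * x i * (s i)⁻¹ = (x i)⁻¹) ∧
      (∀ i j, Commute (x i) (x j)) ∧ ∀ i j, i ≠ j → Commute (s i) (x j) := by
  have : Fact (Nat.Prime 3) := ⟨Nat.prime_three⟩
  set f := h.hom
  have hs : Function.Surjective f := fun σ => let ⟨m, hm, e⟩ := h.surj σ; ⟨⟨m, mem_cent.mpr hm⟩, e⟩
  let E : Subgroup SS := (alternatingGroup (Fin 3)).prod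
    ((alternatingGroup (Fin 3)).prod (alternatingGroup (Fin 3)))
  have mE : ∀ σ, σ ∈ E ↔ σ.1.sign = 1 ∧ σ.2.1.sign = 1 ∧ σ.2.2.sign = 1 := fun σ => by
    simp [E, mem_prod]
  have hE : IsPGroup 3 E := fun g => ⟨1, Subtype.ext (by
    have : ∀ σ : SS, σ.1.sign = 1 ∧ σ.2.1.sign = 1 ∧ σ.2.2.sign = 1 → σ ^ 3 ^ 1 = 1 := by decide +kernel
    exact this _ ((mE _).mp g.2))⟩
  obtain ⟨P⟩ : Nonempty (Sylow 3 (centralizer ({z} : Set G))) := inferInstance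
  have h1 : E ≤ (P : Subgroup _).map f := hE.le_sylow_of_normal (P.mapSurjective hs)
  have h2 : (P : Subgroup _) ≤ E.comap f := fun p hp => by
    obtain ⟨k, hk⟩ := P.isPGroup' ⟨p, hp⟩
    have e : f p ^ 3 ^ k = 1 := by rw [← map_pow, show p ^ 3 ^ k = 1 from congrArg Subtype.val hk, map_one]
    have s : ∀ σ : S3, σ ^ 3 ^ k = 1 → σ.sign = 1 := fun σ e => by
      have := congrArg Equiv.Perm.sign e
      rwa [map_pow, map_one, Int.units_pow_eq_pow_mod_two, Nat.odd_iff.mp (Odd.pow (by decide)),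
        pow_one] at this
    exact (mE _).mpr ⟨s _ (congrArg (·.1) e), s _ (congrArg (·.2.1) e), s _ (congrArg (·.2.2) e)⟩
  have h3 : ∀ p ∈ P, f p = 1 → p = 1 := fun p hp e => by
    obtain ⟨k, hk⟩ := P.isPGroup' ⟨p, hp⟩
    have e1 : p ^ 3 ^ k = 1 := congrArg Subtype.val hk
    have e2 : p ^ 4 = 1 := Subtype.ext (h.pre.es.pow_four ((h.hom_ker p).mp e))
    exact orderOf_eq_one_iff.mp (Nat.eq_one_of_dvd_coprimes (Nat.Coprime.pow_left k (by norm_num))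
      (orderOf_dvd_of_pow_eq_one e1) (orderOf_dvd_of_pow_eq_one e2))
  have h4 : ∀ p ∈ P, ∀ p' ∈ P, f p = f p' → p = p' := fun p hp p' hp' e =>
    (inv_mul_eq_one.mp (h3 _ (mul_mem (inv_mem hp) hp') (by rw [map_mul, map_inv, e, inv_mul_cancel])))
  have h5 : ∀ σ, ∃ n ∈ normalizer (P : Set (centralizer ({z} : Set G))), f n = σ := fun σ => by
    obtain ⟨m, rfl⟩ := hs σ
    have hm : m ∈ ((normalizer (P : Set (centralizer ({z} : Set G))) ⊔ E.comap f : Subgroup _) : Set _) := by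
      rw [Sylow.normalizer_sup_eq_top' P h2]; trivial
    rw [mul_normal] at hm
    obtain ⟨n, hn, k, hk, rfl⟩ := hm
    obtain ⟨p, hp, e⟩ := h1 hk
    exact ⟨n * p, mul_mem hn (le_normalizer hp), by rw [map_mul, map_mul, e]⟩
  have hX : ∀ i, XX i ∈ E := fun i => (mE _).mpr (by revert i; decide +kernel)
  choose x hx hx' using fun i => h1 (hX i)
  choose s hs1 hs' using fun i => h5 (AA i)
  have hn : ∀ i j, s i * x j * (s i)⁻¹ ∈ P := fun i j => (mem_normalizer_iff.mp (hs1 i) _).mp (hx j)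
  refine ⟨fun i => x i, fun i => s i, fun i => ⟨mem_cent.mp (x i).2, hx' i⟩,
    fun i => ⟨mem_cent.mp (s i).2, hs' i⟩, fun i => ?_, fun i => ?_, fun i j => ?_, fun i j hij => ?_⟩
  · exact congrArg Subtype.val (h3 _ (mul_mem (mul_mem (hx i) (hx i)) (hx i)) (by
      rw [map_mul, map_mul, hx']; revert i; decide +kernel))
  · exact congrArg Subtype.val (h4 _ (hn i i) _ (inv_mem (hx i)) (by
      rw [map_mul, map_mul, map_inv, map_inv, hx', hs']; revert i; decide +kernel))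
  · exact congrArg Subtype.val (h4 _ (mul_mem (hx i) (hx j)) _ (mul_mem (hx j) (hx i)) (by
      rw [map_mul, map_mul, hx', hx']; revert i j; decide +kernel))
  · exact comm_of_conj_eq (congrArg Subtype.val (h4 _ (hn i j) _ (hx j) (by
      rw [map_mul, map_mul, map_inv, hx', hs']; revert i j; decide +kernel)))

/-- `(0,1,1)` etc. -/
def uI : Fin 3 → I3 := ![(0, 1, 1), (1, 0, 1), (1, 1, 0)]

theorem b8_uI : ∀ i, b8 (PT (uI i)) (PT 0) = 0 := by decide +kernel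

theorem b8_uu : ∀ i j, b8 (PT (uI i)) (PT (uI j)) = 0 := by decide +kernel

variable {Q Q1 : Subgroup G} {z t : G} {F : G → SS} {q : QuadraticForm (ZMod 2) V8} {π : G → V8}

theorem exists_swap (p : Pair Q Q1 z t) : ∃ g ∈ Q ⊔ Q1, g * z * g⁻¹ = t ∧ g * t * g⁻¹ = z := by
  obtain ⟨a, ha, h1, h2⟩ := p.exists_a
  obtain ⟨b, hb, h3, h4⟩ := p.symm.exists_a
  refine ⟨a * b * a, mul_mem (mul_mem (mem_sup_left ha) (mem_sup_right hb)) (mem_sup_left ha), ?_, ?_⟩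
  · calc a * b * a * z * (a * b * a)⁻¹ = a * (b * (a * z * a⁻¹) * b⁻¹) * a⁻¹ := by group
      _ = (a * z * a⁻¹) * (a * t * a⁻¹) := by nth_rewrite 1 [h1]; rw [h4]; group
      _ = t := by rw [h1, h2, p.comm, p.h0.es.zz]
  · calc a * b * a * t * (a * b * a)⁻¹ = a * (b * (a * t * a⁻¹) * b⁻¹) * a⁻¹ := by group
      _ = a * ((b * t * b⁻¹) * (b * z * b⁻¹)) * a⁻¹ := by rw [h2]; group
      _ = z := by rw [h3, h4, ← p.comm, p.h1.es.zz, h1]

namespace Fm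

theorem π_comm (h : Fm Q Q1 z t F q π) {r u : G} (hr : r * z = z * r) (hu : u ∈ Q) :
    π (r * u * r⁻¹ * u⁻¹) = r8 (F r) (π u) + π u := by
  rw [h.c.map_mul _ (h.norm hr hu) _ (Q.inv_mem hu), h.c.map_inv hu, h.act r hr u hu]

theorem mem_Q1 (h : Fm Q Q1 z t F q π) {x y : G} (hx : x ∈ Q) (hy : y ∈ Q) (hy1 : y ∈ Q1)
    (e : π x = π y) : x ∈ Q1 := by
  rcases (h.c.eq_iff hy hx).mp e.symm with e | e <;> rw [e]
  exacts [hy1, Q1.mul_mem hy1 h.pr.zQ1]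

theorem b_mem (h : Fm Q Q1 z t F q π) {x : G} (hx : x ∈ Q) {k : Fin 3} (e : π x = PT (eI k)) :
    x ∈ Q1 := by
  have d : ∀ k, ∃ i j, r8 (AA j) (PT (uI i)) + PT (uI i) = PT (eI k) ∧ b8 (PT (uI i)) (PT 0) = 0 := by
    decide +kernel
  obtain ⟨i, j, d1, d2⟩ := d k
  obtain ⟨u, hu, e1⟩ := h.c.surj (PT (uI i))
  obtain ⟨r, hr, h1, h2⟩ := h.R _ (ap_AA j)
  have := h.pr.commutator_mem_E hu ((h.comm_iff hu h.pr.tQ).mpr (by rw [e1, h.πt, d2])) hr h1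
  exact h.mem_Q1 hx this.1 this.2 (by rw [h.π_comm h1 hu, h2, e1, d1, e])

theorem core [Finite G] (h : Fm Q Q1 z t F q π) {g u r : G} (hg : g ∈ Q ⊔ Q1)
    (ht : g * t * g⁻¹ = z) (hu : u ∈ Q) (hut : u * t = t * u) (hr : r ∈ Q1) (hrz : r * z = z * r) :
    r8 (F (g * u * g⁻¹)) (π (g * r * g⁻¹)) + π (g * r * g⁻¹) = r8 (F r) (π u) + π u ∨
    r8 (F (g * u * g⁻¹)) (π (g * r * g⁻¹)) + π (g * r * g⁻¹) = r8 (F r) (π u) + π u + PT 0 := by
  have hb := h.pr.commutator_mem_E hu hut hr hrz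
  have h1 := h.pr.mem_V.mp (h.pr.commutator_X_E hg hb)
  have hw := h.pr.conj' g ht r hr
  have hy : g * u * g⁻¹ * z = z * (g * u * g⁻¹) := by
    rw [← ht]
    calc g * u * g⁻¹ * (g * t * g⁻¹) = g * (u * t) * g⁻¹ := by group
      _ = _ := by rw [hut]; group
  have h2 : g * (r * u * r⁻¹ * u⁻¹) * g⁻¹ = (g * u * g⁻¹ * (g * r * g⁻¹) * (g * u * g⁻¹)⁻¹ *
    (g * r * g⁻¹)⁻¹)⁻¹ := by group
  have hq : g * (r * u * r⁻¹ * u⁻¹) * g⁻¹ ∈ Q := h.pr.conj' g ht _ hb.2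
  have h3 := h.c.map_mul _ hq _ (Q.inv_mem hb.1)
  rw [h.c.map_inv hb.1, h.π_comm hrz hu] at h3
  nth_rewrite 2 [h2] at h3
  rw [h.c.map_inv (by rw [← Q.inv_mem_iff, ← h2]; exact hq), h.π_comm hy hw] at h3
  rcases h1 with e | e | e | e <;> rw [e] at h3
  · left; rw [h.c.map_one] at h3; exact add_eq_zero_zmod2.mp h3.symm
  · left; rw [h.c.map_z] at h3; exact add_eq_zero_zmod2.mp h3.symm
  · right; rw [← h.πt, h3, add_left_comm, add_self_zmod2, add_zero]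
  · right; rw [h.c.map_mul_z h.pr.tQ] at h3; rw [← h.πt, h3, add_left_comm, add_self_zmod2, add_zero]

theorem swap_u [Finite G] (h : Fm Q Q1 z t F q π) {g u : G} (hg : g ∈ Q ⊔ Q1) (hz : g * z * g⁻¹ = t)
    (ht : g * t * g⁻¹ = z) (hu : u ∈ Q) {i : Fin 3} (e : π u = PT (uI i)) :
    g * u * g⁻¹ ∈ Q1 ∧ g * u * g⁻¹ * z = z * (g * u * g⁻¹) ∧ F (g * u * g⁻¹) = AA i ∧
      IsConj z (g * u * g⁻¹) ∧ ¬ IsConj z (g * u * g⁻¹ * z) := by
  have hut : u * t = t * u := (h.comm_iff hu h.pr.tQ).mpr (by rw [e, h.πt, b8_uI])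
  have hy : g * u * g⁻¹ * z = z * (g * u * g⁻¹) := by
    rw [← ht]
    calc g * u * g⁻¹ * (g * t * g⁻¹) = g * (u * t) * g⁻¹ := by group
      _ = _ := by rw [hut]; group
  have h1 := h.pr.conj g hz u hu
  refine ⟨h1, hy, ?_, (h.isConj_of_PT hu e).trans (isConj_iff.mpr ⟨g, rfl⟩), fun hc => ?_⟩
  · have d : ∀ σ : SS, ap σ 0 = 0 → ∀ i, σ = AA i ∨ ∃ j, ∀ w, b8 w (PT 0) = 0 →
      r8 σ w + w ≠ r8 (AA j) (PT (uI i)) + PT (uI i) ∧
      r8 σ w + w ≠ r8 (AA j) (PT (uI i)) + PT (uI i) + PT 0 := by decide +kernel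
    refine (d _ (h.ap_of_comm hy (h.pr.h1.es.comm_z _ h1)) i).resolve_right fun ⟨j, hj⟩ => ?_
    obtain ⟨r, hr, h2, h3⟩ := h.R _ (ap_AA j)
    have hw := h.pr.conj' g ht r hr
    have := h.core hg ht hu hut hr h2
    rw [h3, e] at this
    refine this.elim (hj _ ?_).1 (hj _ ?_).2 <;>
    · rw [← h.πt, ← h.comm_iff hw h.pr.tQ, ← hz]
      calc g * r * g⁻¹ * (g * z * g⁻¹) = g * (r * z) * g⁻¹ := by group
        _ = _ := by rw [h2]; group
  · have hc' : IsConj z (u * t) := hc.trans (isConj_iff.mpr ⟨g⁻¹, by rw [← ht]; group⟩)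
    have hm := Q.mul_mem hu h.pr.tQ
    have e1 : π (u * t) = PT (uI i) + PT 0 := by rw [h.c.map_mul _ hu _ h.pr.tQ, e, h.πt]
    have d : ∀ i, PT (uI i) + PT 0 ≠ 0 ∧ ∀ α, PT (uI i) + PT 0 ≠ PT α := by decide +kernel
    obtain ⟨α, hα⟩ := h.PT_of_isConj hm hc' fun e2 => (d i).1 (by rw [← e1, e2, h.c.map_z])
    exact (d i).2 α (e1 ▸ hα)

theorem eq_of_comm_x (h : Fm Q Q1 z t F q π) {x w : G} (hx : x * z = z * x) {i : Fin 3}
    (e : F x = XX i) (hw : w ∈ Q) (hc : x * w = w * x) : w = 1 ∨ w = z := by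
  have d : ∀ i v, r8 (XX i) v = v → v = 0 := by decide +kernel
  exact (h.c.ker w hw).mp (d i _ (e ▸ h.fix hx hw hc))

theorem sq_of_PT (h : Fm Q Q1 z t F q π) {x : G} (hx : x ∈ Q) {α : I3} (e : π x = PT α) : x * x = 1 := by
  obtain ⟨m, -, -, rfl⟩ := h.exists_conj_t hx e
  rw [show m * t * m⁻¹ * (m * t * m⁻¹) = m * (t * t) * m⁻¹ by group, h.pr.h1.es.mul_self]; group

theorem π_x (h : Fm Q Q1 z t F q π) {x : G} (hx : x * z = z * x) {σ : SS} (e : F x = σ) :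
    π (x * t * x⁻¹) = PT (ap σ 0) := by rw [h.act x hx t h.pr.tQ, e, h.πt, r8_PT]

theorem rel_or (h : Fm Q Q1 z t F q π) {x : G} (hx : x * z = z * x) {i : Fin 3} (e : F x = XX i) :
    x⁻¹ * t * x = t * (x * t * x⁻¹) ∨ x⁻¹ * t * x = t * (x * t * x⁻¹) * z := by
  have h1 := h.norm hx h.pr.tQ
  have h2 := h.norm (cz_inv hx) h.pr.tQ
  have h3 := h.π_x (cz_inv hx) (h.st.inv hx)
  rw [inv_inv] at h2 h3
  rw [← h.c.eq_iff (Q.mul_mem h.pr.tQ h1) h2, h.c.map_mul _ h.pr.tQ _ h1, h3, h.π_x hx e, h.πt, e]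
  clear e; revert i; decide +kernel

theorem rel_all (h : Fm Q Q1 z t F q π) {x y : G} (hx : x * z = z * x) (hy : y * z = z * y)
    {i j : Fin 3} (e : F x = XX i) (e' : F y = XX j) (hc : Commute x y)
    (r : x⁻¹ * t * x = t * (x * t * x⁻¹)) : y⁻¹ * t * y = t * (y * t * y⁻¹) := by
  refine (h.rel_or hy e').resolve_right fun r' => h.es.ne_one ?_
  have k : ∀ w, Commute x w → x⁻¹ * (w * t * w⁻¹) * x = w * t * w⁻¹ * (x * (w * t * w⁻¹) * x⁻¹) :=
    fun w hw => by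
      calc x⁻¹ * (w * t * w⁻¹) * x = (x⁻¹ * w) * t * (x⁻¹ * w)⁻¹ := by group
        _ = w * (x⁻¹ * t * x) * w⁻¹ := by rw [hw.inv_left.eq]; group
        _ = w * t * w⁻¹ * ((w * x) * t * (w * x)⁻¹) := by rw [r]; group
        _ = _ := by rw [← hw.eq]; group
  have k1 := k y hc
  have k2 := k y⁻¹ hc.inv_right
  rw [inv_inv, r'] at k2
  have m1 := h.norm hx h.pr.tQ
  have m2 := h.norm hy h.pr.tQ
  have c1 : y * t * y⁻¹ * (x * t * x⁻¹) = x * t * x⁻¹ * (y * t * y⁻¹) := by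
    rw [h.comm_iff m2 m1, h.π_x hx e, h.π_x hy e']
    clear e e'; revert i j; decide +kernel
  set b := y * t * y⁻¹
  have zx := conj_eq_of_comm hx
  have zx' := conj_eq_of_comm (cz_inv hx)
  have l : x⁻¹ * (t * b * z) * x = t * (x * t * x⁻¹) * (b * (x * b * x⁻¹)) * z := by
    rw [← r, ← k1]; nth_rewrite 2 [← zx']; group
  have l' : t * b * z * (x * (t * b * z) * x⁻¹) = t * (x * t * x⁻¹) * (b * (x * b * x⁻¹)) := by
    calc _ = t * b * (z * ((x * t * x⁻¹) * (x * b * x⁻¹))) * (x * z * x⁻¹) := by group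
      _ = t * (b * (x * t * x⁻¹)) * (x * b * x⁻¹) := by
        rw [zx, ← h.es.comm_z _ (Q.mul_mem m1 (h.norm hx m2)), ← mul_assoc, h.es.zz']; group
      _ = _ := by rw [c1]; group
  rw [l, l'] at k2
  exact mul_eq_left.mp k2

end Fm

/-- coordinates together with a complement -/
structure Fr (Q Q1 : Subgroup G) (z t : G) (F : G → SS) (q : QuadraticForm (ZMod 2) V8)
    (π : G → V8) (l : SS →* G) : Prop extends Fm Q Q1 z t F q π where
  lz : ∀ σ, l σ * z = z * l σ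
  lF : ∀ σ, F (l σ) = σ
  lQ : ∀ i, l (AA i) ∈ Q1
  lD : ∀ i, IsConj z (l (AA i))
  lD' : ∀ i, ¬ IsConj z (l (AA i) * z)
  rel : ∀ i, (l (XX i))⁻¹ * t * l (XX i) = t * (l (XX i) * t * (l (XX i))⁻¹)

theorem Fm.exists_fr' [Finite G] (h : Fm Q Q1 z t F q π) {x s : Fin 3 → G}
    (hx : ∀ i, x i * z = z * x i ∧ F (x i) = XX i) (hs : ∀ i, s i * z = z * s i ∧ F (s i) = AA i)
    (h3 : ∀ i, x i * x i * x i = 1) (hi : ∀ i, s i * x i * (s i)⁻¹ = (x i)⁻¹)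
    (c1 : ∀ i j, Commute (x i) (x j)) (c2 : ∀ i j, i ≠ j → Commute (s i) (x j))
    (rel : ∀ i, (x i)⁻¹ * t * x i = t * (x i * t * (x i)⁻¹)) : ∃ l, Fr Q Q1 z t F q π l := by
  obtain ⟨g, hg, hz, ht⟩ := exists_swap h.pr
  choose u hu hu' using fun i => h.c.surj (PT (uI i))
  obtain ⟨y, hy⟩ : ∃ y : Fin 3 → G, ∀ i, y i = g * u i * g⁻¹ := ⟨fun i => g * u i * g⁻¹, fun _ => rfl⟩
  have Y : ∀ i, y i ∈ Q1 ∧ y i * z = z * y i ∧ F (y i) = AA i ∧ IsConj z (y i) ∧ ¬ IsConj z (y i * z) :=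
    fun i => by rw [hy]; exact h.swap_u hg hz ht (hu i) (hu' i)
  have y2 : ∀ i, y i * y i = 1 := fun i => by
    rw [hy, show g * u i * g⁻¹ * (g * u i * g⁻¹) = g * (u i * u i) * g⁻¹ by group,
      h.sq_of_PT (hu i) (hu' i)]; group
  have yc : ∀ i j, Commute (y i) (y j) := fun i j => by
    rw [hy, hy]; exact Commute.conj ((h.comm_iff (hu i) (hu j)).mpr (by rw [hu', hu', b8_uu])) g
  have inv0 : ∀ w, (w * x 0 * w⁻¹ = x 0 ∨ w * x 0 * w⁻¹ = (x 0)⁻¹) → x 0 * (w * w) = w * w * x 0 := by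
    rintro w (e | e)
    · exact ((Commute.symm (comm_of_conj_eq e)).mul_right (Commute.symm (comm_of_conj_eq e))).eq
    · refine (comm_of_conj_eq ?_).symm
      calc w * w * x 0 * (w * w)⁻¹ = w * (w * x 0 * w⁻¹) * w⁻¹ := by group
        _ = (w * x 0 * w⁻¹)⁻¹ := by nth_rewrite 1 [e]; group
        _ = x 0 := by rw [e, inv_inv]
  have A2 : ∀ i, AA i * AA i = 1 ∧ AA i ≠ 1 := by decide +kernel
  have s0 : ∀ i, s i * x 0 * (s i)⁻¹ = x 0 ∨ s i * x 0 * (s i)⁻¹ = (x 0)⁻¹ := fun i => by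
    by_cases e : i = 0
    · rw [e]; exact Or.inr (hi 0)
    · exact Or.inl (conj_eq_of_comm (c2 i 0 e))
  have ex : ∀ i, ∃ w ∈ Q, s i = w⁻¹ * y i * w ∨ s i = w⁻¹ * y i * w * z := fun i =>
    h.exists_conj_or (Y i).2.1 (y2 i) (by rw [(Y i).2.2.1, ap_AA]) (by rw [(Y i).2.2.1]; exact (A2 i).2)
      (hs i).1 (by rw [(Y i).2.2.1, (hs i).2]) (h.eq_of_comm_x (hx 0).1 (hx 0).2
        ((h.st.ker _ (cz_mul (hs i).1 (hs i).1)).mp (by
          rw [h.st.mul _ _ (hs i).1 (hs i).1, (hs i).2, (A2 i).1])) (inv0 _ (s0 i)))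
  choose w hw hw' using ex
  obtain ⟨a, ha⟩ : ∃ a : Fin 3 → G, ∀ i, a i = (w i)⁻¹ * y i * w i :=
    ⟨fun i => (w i)⁻¹ * y i * w i, fun _ => rfl⟩
  replace hw' : ∀ i, s i = a i ∨ s i = a i * z := fun i => by rw [ha]; exact hw' i
  have az : ∀ i, a i * z = z * a i := fun i => by
    rw [ha]; exact cz_mul (cz_mul (cz_inv (h.st.cq (hw i))) (Y i).2.1) (h.st.cq (hw i))
  have ac : ∀ i v, v * z = z * v → a i * v * (a i)⁻¹ = s i * v * (s i)⁻¹ := fun i v hv => by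
    rcases hw' i with e | e <;> rw [e]
    calc a i * v * (a i)⁻¹ = a i * (z * v * z⁻¹) * (a i)⁻¹ := by rw [conj_eq_of_comm hv.symm]
      _ = _ := by group
  have aF : ∀ i, F (a i) = AA i := fun i => by
    have := h.st.conjF (cz_inv (h.st.cq (hw i))) (Y i).2.1
    rwa [inv_inv, h.st.FQ (Q.inv_mem (hw i)), (Y i).2.2.1, one_mul, inv_one, mul_one, ← ha] at this
  have a2 : ∀ i, a i * a i = 1 := fun i => by
    rw [ha, show (w i)⁻¹ * y i * w i * ((w i)⁻¹ * y i * w i) = (w i)⁻¹ * (y i * y i) * w i by group, y2]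
    group
  have ax : ∀ i, a i * x i * (a i)⁻¹ = (x i)⁻¹ := fun i => by rw [ac i _ (hx i).1, hi]
  have ax' : ∀ i j, i ≠ j → Commute (a i) (x j) := fun i j hij =>
    comm_of_conj_eq (by rw [ac i _ (hx j).1, conj_eq_of_comm (c2 i j hij)])
  have aa : ∀ i j, Commute (a i) (a j) := fun i j => by
    by_cases hij : i = j
    · rw [hij]
    have d : ∀ i j, i ≠ j → ap (AA i * AA j) 0 = 0 ∧ AA i * AA j ≠ 1 ∧
      AA i * AA j * (AA i * AA j) = 1 := by decide +kernel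
    have f1 : F (y i * y j) = AA i * AA j := by
      rw [h.st.mul _ _ (Y i).2.1 (Y j).2.1, (Y i).2.2.1, (Y j).2.2.1]
    have f2 : F (a i * a j) = AA i * AA j := by rw [h.st.mul _ _ (az i) (az j), aF, aF]
    have z2 := cz_mul (az i) (az j)
    have y3 : y i * y j * (y i * y j) = 1 := by
      rw [mul_assoc, ← mul_assoc (y j), ← (yc i j).eq, mul_assoc, y2, mul_one, y2]
    obtain ⟨v, hv, e⟩ := h.exists_conj_or (cz_mul (Y i).2.1 (Y j).2.1) y3 (f1 ▸ (d i j hij).1)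
      (f1 ▸ (d i j hij).2.1) z2 (f1.trans f2.symm) (h.eq_of_comm_x (hx 0).1 (hx 0).2
        ((h.st.ker _ (cz_mul z2 z2)).mp (by rw [h.st.mul _ _ z2 z2, f2, (d i j hij).2.2])) (inv0 _ (by
          rw [show a i * a j * x 0 * (a i * a j)⁻¹ = a i * (a j * x 0 * (a j)⁻¹) * (a i)⁻¹ by group,
            ac j _ (hx 0).1]
          rcases s0 j with e | e <;> rw [e]
          · rw [ac i _ (hx 0).1]; exact s0 i
          · rw [show a i * (x 0)⁻¹ * (a i)⁻¹ = (a i * x 0 * (a i)⁻¹)⁻¹ by group, ac i _ (hx 0).1]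
            rcases s0 i with e | e <;> rw [e] <;> simp)))
    have k : v⁻¹ * (y i * y j) * v * (v⁻¹ * (y i * y j) * v) = 1 := by
      rw [show v⁻¹ * (y i * y j) * v * (v⁻¹ * (y i * y j) * v) = v⁻¹ * (y i * y j * (y i * y j)) * v by
        group, y3]; group
    have : a i * a j * (a i * a j) = 1 := by
      rcases e with e | e
      · rw [e, k]
      · rw [e, mul_assoc, ← mul_assoc z, ← cz_mul (cz_mul (cz_inv (h.st.cq hv))
          (cz_mul (Y i).2.1 (Y j).2.1)) (h.st.cq hv), h.es.zz', k]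
    calc a i * a j = (a i * a j)⁻¹ := eq_inv_of_mul_eq_one_left this
      _ = a j * a i := by rw [mul_inv_rev, inv_eq_of_mul_eq_one_right (a2 i), inv_eq_of_mul_eq_one_right (a2 j)]
  have tt := h.pr.h1.es.mul_self
  have at' : ∀ i, a i * t * (a i)⁻¹ = t := fun i => by
    refine ((h.c.eq_iff h.pr.tQ (h.norm (az i) h.pr.tQ)).mp (by
      rw [h.π_x (az i) (aF i), ap_AA, h.πt])).resolve_right fun e => h.es.ne_one ?_
    have k := congrArg (fun v => a i * v * (a i)⁻¹) (rel i)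
    rw [show a i * ((x i)⁻¹ * t * x i) * (a i)⁻¹ = (a i * x i * (a i)⁻¹)⁻¹ * (a i * t * (a i)⁻¹) *
      (a i * x i * (a i)⁻¹) by group, show a i * (t * (x i * t * (x i)⁻¹)) * (a i)⁻¹ = a i * t * (a i)⁻¹ *
      ((a i * x i * (a i)⁻¹) * (a i * t * (a i)⁻¹) * (a i * x i * (a i)⁻¹)⁻¹) by group, ax, e, inv_inv] at k
    have zx := conj_eq_of_comm (hx i).1
    have zx' := conj_eq_of_comm (cz_inv (hx i).1)
    have l1 : x i * (t * z) * (x i)⁻¹ = x i * t * (x i)⁻¹ * z := by nth_rewrite 2 [← zx]; group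
    have l2 : (x i)⁻¹ * (t * z) * x i = t * (x i * t * (x i)⁻¹) * z := by
      rw [← rel]; nth_rewrite 2 [← zx']; group
    rw [l1, l2, mul_assoc t z, ← h.es.comm_z _ (Q.mul_mem (Q.mul_mem h.pr.tQ (h.norm (hx i).1 h.pr.tQ))
      h.es.mem), h.es.zz', ← mul_assoc t t, tt, one_mul] at k
    exact mul_eq_left.mp k
  have aQ : ∀ i, a i ∈ Q1 := fun i => by
    by_cases hc : (w i)⁻¹ * t = t * (w i)⁻¹
    · rw [ha]; simpa using h.pr.h1.norm _ hc _ (Y i).1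
    exfalso
    have m1 := h.norm (hx i).1 h.pr.tQ
    have m2 : x i * t * (x i)⁻¹ ∈ Q1 := h.b_mem m1 (k := i) (by rw [h.π_x (hx i).1 (hx i).2, XX, ap_xs0])
    set e := x i * t * (x i)⁻¹ with he
    have m3 : w i * e * (w i)⁻¹ ∈ Q1 := h.mem_Q1 (Q.mul_mem (Q.mul_mem (hw i) m1) (Q.inv_mem (hw i))) m1 m2
      (by rw [h.act _ (h.st.cq (hw i)) _ m1, h.st.FQ (hw i)]; generalize π e = v; revert v; decide +kernel)
    have k1 : a i * e * (a i)⁻¹ = e * t := by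
      rw [he, show a i * (x i * t * (x i)⁻¹) * (a i)⁻¹ = (a i * x i * (a i)⁻¹) * (a i * t * (a i)⁻¹) *
        (a i * x i * (a i)⁻¹)⁻¹ by group, ax, at', inv_inv, rel, h.pr.h1.es.comm_z _ m2]
    have k2 := h.es.conj_of_ne h.pr.tQ (Q.inv_mem (hw i)) hc
    have k3 : a i * e * (a i)⁻¹ = (w i)⁻¹ * (y i * (w i * e * (w i)⁻¹) * (y i)⁻¹) * w i := by
      rw [ha]; group
    rcases h.pr.h1.es.conj m3 (Y i).1 with k4 | k4 <;> rw [k4, k1] at k3
    · exact h.pr.t_ne_one (mul_eq_left.mp (k3.trans (by group)))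
    · have : e * t = e * t * z := by rw [mul_assoc e t z, ← k2]; exact k3.trans (by group)
      exact h.es.ne_one (left_eq_mul.mp this)
  obtain ⟨l, hl⟩ := exists_hom_SS h3 a2 ax c1 ax' aa
  have lz : ∀ σ, l σ * z = z * l σ := indSS (fun i => by rw [(hl i).1]; exact (hx i).1)
    (fun i => by rw [(hl i).2]; exact az i) fun a b ha hb => by rw [map_mul]; exact cz_mul ha hb
  refine ⟨l, h, lz, indSS (fun i => by rw [(hl i).1, (hx i).2]) (fun i => by rw [(hl i).2, aF])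
    fun a b ha hb => by rw [map_mul, h.st.mul _ _ (lz a) (lz b), ha, hb], fun i => (hl i).2 ▸ aQ i,
    fun i => ?_, fun i hc => (Y i).2.2.2.2 ?_, fun i => (hl i).1 ▸ rel i⟩
  · rw [(hl i).2]; exact (Y i).2.2.2.1.trans (isConj_iff.mpr ⟨(w i)⁻¹, by rw [inv_inv, ha]⟩)
  · rw [(hl i).2] at hc
    refine hc.trans (isConj_iff.mpr ⟨w i, ?_⟩)
    nth_rewrite 2 [← conj_eq_of_comm (h.st.cq (hw i))]
    rw [ha]; group

theorem Fm.exists_fr [Finite G] (h : Fm Q Q1 z t F q π) : ∃ Q2 t2 l, Fr Q Q2 z t2 F q π l := by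
  obtain ⟨x, s, hx, hs, h3, hi, c1, c2⟩ := h.st.exists_lifts
  rcases h.rel_or (hx 0).1 (hx 0).2 with r | r
  · exact ⟨Q1, t, h.exists_fr' hx hs h3 hi c1 c2 fun i =>
      h.rel_all (hx 0).1 (hx i).1 (hx 0).2 (hx i).2 (c1 0 i) r⟩
  · obtain ⟨Q2, h'⟩ := h.flip
    refine ⟨Q2, t * z, h'.exists_fr' hx hs h3 hi c1 c2 fun i =>
      h'.rel_all (hx 0).1 (hx i).1 (hx 0).2 (hx i).2 (c1 0 i) ?_⟩
    have zx := conj_eq_of_comm (hx 0).1
    have zx' := conj_eq_of_comm (cz_inv (hx 0).1)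
    have l1 : x 0 * (t * z) * (x 0)⁻¹ = x 0 * t * (x 0)⁻¹ * z := by nth_rewrite 2 [← zx]; group
    have l2 : (x 0)⁻¹ * (t * z) * x 0 = (x 0)⁻¹ * t * x 0 * z := by nth_rewrite 2 [← zx']; group
    rw [l1, l2, r, h.es.zz', mul_assoc t z, ← h.es.comm_z _ (Q.mul_mem (h.norm (hx 0).1 h.pr.tQ) h.es.mem),
      h.es.zz']

end CfsgLib.O8R
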