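import Mathlib
import Cfsg.Agent.Lib.O8R.Frame
import Cfsg.Agent.Lib.O8R.Recog

/-! The Weyl element of the central node. -/

set_option autoImplicit false
set_option synthInstance.maxSize 2048
set_option Elab.async false

namespace CfsgLib.O8R

open CfsgLib.ExtraTwo CfsgLib.LargeExtra CfsgLib.W4 Subgroup QuadraticMap

variable {G : Type*} [Group G]

instance decEx8 (p : V8 → Prop) [DecidablePred p] : Decidable (∃ v, p v) :=
  decidable_of_iff (∃ a b c d e f g k : ZMod 2, p (((a, b), (c, d)), ((e, f), (g, k))))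
    ⟨fun ⟨_, _, _, _, _, _, _, _, h⟩ => ⟨_, h⟩, fun ⟨_, h⟩ => ⟨_, _, _, _, _, _, _, _, h⟩⟩

/-- the root elements in `Q` -/
def pp (l : SS →* G) (t : G) (α : I3) : G := l (xs α) * t * (l (xs α))⁻¹

/-- the Weyl elements of the outer nodes -/
def NN : Fin 3 → SS := ![(Equiv.swap 0 1, 1, 1), (1, Equiv.swap 0 1, 1), (1, 1, Equiv.swap 0 1)]

theorem AA_sq : ∀ i, AA i * AA i = 1 := by decide +kernel

theorem AA_ne : ∀ i, AA i ≠ 1 := by decide +kernel

theorem AA_comm (i j : Fin 3) : Commute (AA i) (AA j) :=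
  (by decide +kernel : ∀ i j, AA i * AA j = AA j * AA i) i j

theorem cj_mul (g a b : G) : g * (a * b) * g⁻¹ = g * a * g⁻¹ * (g * b * g⁻¹) := by group

theorem cj_cj (g h a : G) : g * h * a * (g * h)⁻¹ = g * (h * a * h⁻¹) * g⁻¹ := by group

theorem comm_cube {y a b c : G} (h1 : y * a * y⁻¹ = b) (h2 : y * b * y⁻¹ = c) (h3 : y * c * y⁻¹ = a) :
    y * y * y * a = a * (y * y * y) :=
  comm_of_conj_eq (by rw [cj_cj, h1, cj_cj, h2, h3])

variable {Q Q1 : Subgroup G} {z t : G} {F : G → SS} {q : QuadraticForm (ZMod 2) V8} {π : G → V8}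
  {l : SS →* G}

namespace Fr

theorem p_mem (h : Fr Q Q1 z t F q π l) (α : I3) : pp l t α ∈ Q := h.norm (h.lz _) h.pr.tQ

theorem π_p (h : Fr Q Q1 z t F q π l) (α : I3) : π (pp l t α) = PT α := by
  rw [pp, h.π_x (h.lz _) (h.lF _), ap_xs0]

theorem p_sq (h : Fr Q Q1 z t F q π l) (α : I3) : pp l t α * pp l t α = 1 :=
  h.sq_of_PT (h.p_mem α) (h.π_p α)

theorem p_inv (h : Fr Q Q1 z t F q π l) (α : I3) : (pp l t α)⁻¹ = pp l t α :=
  inv_eq_of_mul_eq_one_right (h.p_sq α)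

theorem p_D (h : Fr Q Q1 z t F q π l) (α : I3) : IsConj z (pp l t α) :=
  h.isConj_of_PT (h.p_mem α) (h.π_p α)

theorem p_zero : pp l t 0 = t := by
  rw [pp, show xs 0 = 1 by decide +kernel, map_one]; group

theorem lQ1 (h : Fr Q Q1 z t F q π l) {σ : SS} (e : ap σ 0 = 0) : l σ ∈ Q1 := by
  have d : ∀ σ : SS, ap σ 0 = 0 → ∃ a b c : Fin 2, σ = AA 0 ^ a.val * AA 1 ^ b.val * AA 2 ^ c.val := by
    decide +kernel
  obtain ⟨a, b, c, rfl⟩ := d σ e
  simp only [map_mul, map_pow]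
  exact mul_mem (mul_mem (pow_mem (h.lQ 0) _) (pow_mem (h.lQ 1) _)) (pow_mem (h.lQ 2) _)

theorem lt (h : Fr Q Q1 z t F q π l) {σ : SS} (e : ap σ 0 = 0) : l σ * t = t * l σ :=
  h.pr.h1.es.comm_z _ (h.lQ1 e)

theorem conj_p (h : Fr Q Q1 z t F q π l) (g : SS) (α : I3) :
    l g * pp l t α * (l g)⁻¹ = pp l t (ap g α) := by
  have := conj_eq_of_comm (h.lt (σ := (xs (ap g α))⁻¹ * (g * xs α)) (by
    rw [ap_mul, ap_mul, ap_xs0]; exact ap_inv_eq (ap_xs0 _)))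
  rw [pp, pp]; nth_rewrite 2 [← this]
  simp only [map_mul, map_inv]; group

theorem p_comm (h : Fr Q Q1 z t F q π l) {α β : I3} (e : b8 (PT α) (PT β) = 0) :
    pp l t α * pp l t β = pp l t β * pp l t α :=
  (h.comm_iff (h.p_mem α) (h.p_mem β)).mpr (by rw [h.π_p, h.π_p, e])

theorem p_rel (h : Fr Q Q1 z t F q π l) (α : I3) (i : Fin 3) :
    pp l t (α - eI i) = pp l t α * pp l t (α + eI i) := by
  have h1 := h.conj_p (XX i)⁻¹ 0
  have h2 := h.conj_p (XX i) 0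
  rw [p_zero] at h1 h2
  rw [map_inv, inv_inv, h.rel, h2] at h1
  have := congrArg (fun v => l (xs α) * v * (l (xs α))⁻¹) h1
  simp only [cj_mul, h.conj_p] at this
  have d : ∀ α i, ap (xs α) (ap (XX i) 0) = α + eI i ∧ ap (xs α) (ap (XX i)⁻¹ 0) = α - eI i := by
    decide +kernel
  rw [(d α i).1, (d α i).2] at this
  exact this.symm

theorem a_sq (i : Fin 3) : l (AA i) * l (AA i) = 1 := by rw [← map_mul, AA_sq, map_one]

theorem a_inv (i : Fin 3) : (l (AA i))⁻¹ = l (AA i) := inv_eq_of_mul_eq_one_right (a_sq i)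

theorem conj_az (h : Fr Q Q1 z t F q π l) {i : Fin 3} {x : G} (hx : x ∈ Q) :
    ¬ IsConj z (x⁻¹ * l (AA i) * x * z) := fun hc => h.lD' i (hc.trans (isConj_iff.mpr ⟨x, by
      nth_rewrite 2 [← conj_eq_of_comm (h.st.cq hx)]; group⟩))

theorem a_comm (h : Fr Q Q1 z t F q π l) {i : Fin 3} {x : G} (hx : x ∈ Q)
    (e : r8 (AA i) (π x) = π x) : l (AA i) * x = x * l (AA i) := by
  have h1 := h.conj_or (h.lz (AA i)) (a_sq i) (one_mem Q) hx (by rw [h.lF, e, add_self_zmod2, h.c.map_one])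
  rw [mul_one] at h1
  rcases h1 with e1 | e1
  · nth_rewrite 2 [e1]; group
  · exact absurd (e1 ▸ h.lD i) (h.conj_az hx)

theorem a_conj (h : Fr Q Q1 z t F q π l) {i : Fin 3} {w x : G} (hw : w ∈ Q) (hx : x ∈ Q)
    (e : r8 (AA i) (π x) + π x = π w) (hc : IsConj z (l (AA i) * w)) :
    l (AA i) * w = x⁻¹ * l (AA i) * x :=
  (h.conj_or (h.lz (AA i)) (a_sq i) hw hx (by rw [h.lF, e])).resolve_right fun e1 =>
    h.conj_az hx (e1 ▸ hc)

theorem exists_a_conj (h : Fr Q Q1 z t F q π l) {i : Fin 3} {y : G} (hy : y * z = z * y)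
    (e : F y = AA i) (hc : IsConj z y) : ∃ x ∈ Q, y = x⁻¹ * l (AA i) * x := by
  obtain ⟨x, hx, e1⟩ := h.exists_conj_or (h.lz (AA i)) (a_sq i) (by rw [h.lF, ap_AA])
    (by rw [h.lF]; exact AA_ne i) hy (by rw [h.lF, e]) (Or.inl (by
      obtain ⟨g, rfl⟩ := isConj_iff.mp hc
      rw [← cj_mul, h.es.mul_self]; group))
  exact ⟨x, hx, e1.resolve_right fun e1 => h.conj_az hx (e1 ▸ hc)⟩

theorem not_both (h : Fr Q Q1 z t F q π l) {i : Fin 3} {w : G} (hw : w ∈ Q)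
    (hc : IsConj z (l (AA i) * w)) : ¬ IsConj z (l (AA i) * w * z) := by
  obtain ⟨x, hx, e⟩ := h.exists_a_conj (i := i) (cz_mul (h.lz _) (h.st.cq hw))
    (by rw [h.st.mul _ _ (h.lz _) (h.st.cq hw), h.lF, h.st.FQ hw, mul_one]) hc
  rw [e]; exact h.conj_az hx

theorem comm_a (h : Fr Q Q1 z t F q π l) {i : Fin 3} {α β : I3} (e : ap (AA i) α = α + eI i)
    (e' : β = α - eI i) :
    l (AA i) * pp l t α * (l (AA i))⁻¹ * (pp l t α)⁻¹ = pp l t β := by
  rw [h.conj_p, e, h.p_inv, e', h.p_rel]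
  exact h.p_comm (by clear * -; revert α i; decide +kernel)

theorem ap_D (h : Fr Q Q1 z t F q π l) {i : Fin 3} {β : I3} (e : co β i = 0) :
    IsConj z (l (AA i) * pp l t β) := by
  have := h.comm_a (i := i) (α := β + eI i) (β := β) (by clear * - e; revert β i; decide +kernel)
    (by simp)
  refine (h.lD i).trans (isConj_iff.mpr ⟨pp l t (β + eI i), ?_⟩)
  rw [← this, ← mul_assoc, ← mul_assoc, ← mul_assoc, a_sq, one_mul, a_inv]

theorem in_V (h : Fr Q Q1 z t F q π l) {k : G} (hz : k * z = z * k) (ht : k * t = t * k)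
    (hu : ∀ i, k * pp l t (uI i) = pp l t (uI i) * k) (ha : ∀ i, k * l (AA i) = l (AA i) * k) :
    k = 1 ∨ k = z ∨ k = t ∨ k = t * z := by
  have d : ∀ σ : SS, ap σ 0 = 0 → (∀ i, ap σ (uI i) = uI i) → σ = 1 := by decide +kernel
  have hk : k ∈ Q := (h.st.ker k hz).mp (d _ (h.ap_of_comm hz ht) fun i => PT_inj _ _ (by
    rw [← r8_PT, ← h.π_p, h.fix hz (h.p_mem _) (hu i)]))
  have d : ∀ v : V8, (∀ i, r8 (AA i) v = v) → v = 0 ∨ v = PT 0 := by decide +kernel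
  rcases d (π k) (fun i => h.lF (AA i) ▸ h.fix (h.lz _) hk (ha i).symm) with e | e
  · rcases (h.c.ker k hk).mp e with e | e <;> simp [e]
  · rcases (h.c.eq_iff h.pr.tQ hk).mp (h.πt.trans e.symm) with e | e <;> simp [e]

theorem exists_g [Finite G] (h : Fr Q Q1 z t F q π l) (k : ℕ) : ∃ g ∈ Q ⊔ Q1, g * z * g⁻¹ = t ∧
    g * t * g⁻¹ = z ∧ ∀ j : Fin 3, j.val < k → g * pp l t (uI j) * g⁻¹ = l (AA j) := by
  induction k with
  | zero => obtain ⟨g, hg, h1, h2⟩ := exists_swap h.pr; exact ⟨g, hg, h1, h2, fun j hj => absurd hj (by omega)⟩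
  | succ k ih =>
    obtain ⟨g, hg, h1, h2, h3⟩ := ih
    by_cases hk : 3 ≤ k
    · exact ⟨g, hg, h1, h2, fun j _ => h3 j (by omega)⟩
    let i : Fin 3 := ⟨k, by omega⟩
    obtain ⟨y1, y2, y3, y4, -⟩ := h.swap_u hg h1 h2 (h.p_mem (uI i)) (h.π_p _)
    set y := g * pp l t (uI i) * g⁻¹ with hy
    have hw := h.st.mem_of_eq (h.lz (AA i)) y2 (by rw [h.lF, y3])
    have hw1 : (l (AA i))⁻¹ * y ∈ Q1 := mul_mem (inv_mem (h.lQ i)) y1
    have d : ∀ (i : Fin 3) (w : V8), b8 w (PT 0) = 0 → (∀ k, b8 w (PT (eI k)) = 0) →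
      (∀ j : Fin 3, j ≤ i → r8 (AA j) w = w) → ∃ v, b8 v (PT 0) = 0 ∧
        (∀ j : Fin 3, j < i → r8 (AA j) v = v) ∧ r8 (AA i) v + v = w := by decide +kernel
    obtain ⟨v, v1, v2, v3⟩ := d i (π ((l (AA i))⁻¹ * y))
      (by rw [← h.πt, ← h.comm_iff hw h.pr.tQ]; exact h.pr.h1.es.comm_z _ hw1)
      (fun k => by
        rw [← h.π_p, ← h.comm_iff hw (h.p_mem _)]
        exact h.pr.E_comm ⟨hw, hw1⟩ ⟨h.p_mem _, h.b_mem (h.p_mem _) (h.π_p _)⟩)
      fun j hj => h.lF (AA j) ▸ h.fix (h.lz _) hw (by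
        rcases hj.lt_or_eq with e | e
        · have c1 : Commute (l (AA j)) y := by
            rw [← h3 j e, hy]; exact Commute.conj (h.p_comm (b8_uu _ _)) g
          have c2 : Commute (l (AA j)) (l (AA i)) := (AA_comm _ _).map l
          exact (c2.inv_right.mul_right c1).eq
        · have y5 : y * y = 1 := by rw [hy, ← cj_mul, h.p_sq]; group
          have := h.pr.E_sq ⟨hw, hw1⟩
          rw [a_inv] at this
          have c1 : Commute (l (AA i)) y := by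
            calc l (AA i) * y = (l (AA i) * y)⁻¹ := eq_inv_of_mul_eq_one_left this
              _ = _ := by rw [mul_inv_rev, a_inv, inv_eq_of_mul_eq_one_right y5]
          rw [e]
          exact ((Commute.refl _).inv_right.mul_right c1).eq)
    obtain ⟨x, hx, rfl⟩ := h.c.surj v
    have e := h.a_conj hw hx v3 (by rwa [mul_inv_cancel_left])
    rw [mul_inv_cancel_left] at e
    have xt : x * t = t * x := (h.comm_iff hx h.pr.tQ).mpr (by rw [h.πt, v1])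
    refine ⟨x * g, mul_mem (mem_sup_left hx) hg, by rw [cj_cj, h1, conj_eq_of_comm xt],
      by rw [cj_cj, h2, conj_eq_of_comm (h.st.cq hx)], fun j hj => ?_⟩
    rw [cj_cj]
    rcases (Nat.lt_succ_iff.mp hj).lt_or_eq with e1 | e1
    · rw [h3 j e1, conj_eq_of_comm (h.a_comm hx (v2 j e1)).symm]
    · rw [show j = i from Fin.ext e1, ← hy, e]; group

theorem exists_n [Finite G] (h : Fr Q Q1 z t F q π l) : ∃ n, n * n = 1 ∧ n * z * n⁻¹ = t ∧
    ∀ j, n * pp l t (uI j) * n⁻¹ = l (AA j) := by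
  obtain ⟨g, hg, h1, h2, h3⟩ := h.exists_g 3
  replace h3 := fun j => h3 j j.2
  have hv : ∀ j, g * l (AA j) * g⁻¹ ∈ Q := fun j => h.pr.conj' g h2 _ (h.lQ j)
  have ex : ∀ j, ∃ β, g * l (AA j) * g⁻¹ = pp l t β ∧ co β j = 0 ∧ ∀ i, i ≠ j → co β i ≠ 0 := fun j => by
    obtain ⟨β, hβ⟩ := h.PT_of_isConj (hv j) ((h.lD j).trans (isConj_iff.mpr ⟨g, rfl⟩)) fun e => by
      have : l (AA j) = t := by rw [← h2] at e; simpa using e
      exact AA_ne j (by rw [← h.lF (AA j), this, h.st.FQ h.pr.tQ])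
    have d : ∀ j β, (∀ i, i ≠ j → r8 (AA i) (PT β) + PT β = r8 (AA j) (PT (uI i)) + PT (uI i) ∨
      r8 (AA i) (PT β) + PT β = r8 (AA j) (PT (uI i)) + PT (uI i) + PT 0) →
      co β j = 0 ∧ ∀ i, i ≠ j → co β i ≠ 0 := by decide +kernel
    have := d j β fun i _ => by
      have := h.core hg h2 (h.p_mem (uI i)) (by
        have := h.p_comm (b8_uI i); rwa [p_zero] at this) (h.lQ j) (h.lz _)
      rwa [h3, h.lF, h.lF, hβ, h.π_p] at this
    refine ⟨β, ((h.c.eq_iff (h.p_mem β) (hv j)).mp (by rw [h.π_p, hβ])).resolve_right fun e => ?_, this⟩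
    refine h.not_both (h.p_mem β) (h.ap_D this.1) ?_
    rw [mul_assoc, ← e]
    nth_rewrite 1 [← h3 j]
    rw [← cj_mul, ← h.a_comm (h.p_mem _) (by rw [h.π_p]; clear * -; revert j; decide +kernel)]
    exact (h.ap_D (by clear * -; revert j; decide +kernel)).trans (isConj_iff.mpr ⟨g, rfl⟩)
  choose β hβ b1 b2 using ex
  have bc : ∀ i j, b8 (PT (β i)) (PT (β j)) = 0 := fun i j => by
    rw [← h.π_p, ← h.π_p, ← h.comm_iff (h.p_mem _) (h.p_mem _), ← hβ, ← hβ]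
    exact Commute.conj ((AA_comm _ _).map l) g
  have d : ∀ a, (co a 0 = 0 ∧ ∀ i, i ≠ 0 → co a i ≠ 0) → ∀ b, (co b 1 = 0 ∧ ∀ i, i ≠ 1 → co b i ≠ 0) →
    ∀ c, (co c 2 = 0 ∧ ∀ i, i ≠ 2 → co c i ≠ 0) → b8 (PT a) (PT b) = 0 → b8 (PT a) (PT c) = 0 →
    b8 (PT b) (PT c) = 0 → ∃ σ, ap σ 0 = 0 ∧ (∀ i, σ * AA i = AA i * σ) ∧ ap σ a = uI 0 ∧
      ap σ b = uI 1 ∧ ap σ c = uI 2 := by decide +kernel
  obtain ⟨σ, s0, s1, s2, s3, s4⟩ := d _ ⟨b1 0, b2 0⟩ _ ⟨b1 1, b2 1⟩ _ ⟨b1 2, b2 2⟩ (bc _ _) (bc _ _) (bc _ _)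
  have s5 : ∀ j, ap σ (β j) = uI j := fun j => by fin_cases j; exacts [s2, s3, s4]
  obtain ⟨n, n1, n2, n3, n4⟩ : ∃ n, n * z * n⁻¹ = t ∧ n * t * n⁻¹ = z ∧
      (∀ j, n * pp l t (uI j) * n⁻¹ = l (AA j)) ∧ ∀ j, n * l (AA j) * n⁻¹ = pp l t (uI j) :=
    ⟨l σ * g, by rw [cj_cj, h1, conj_eq_of_comm (h.lt s0)], by rw [cj_cj, h2, conj_eq_of_comm (h.lz σ)],
      fun j => by rw [cj_cj, h3, conj_eq_of_comm (Commute.map (s1 j) l)],
      fun j => by rw [cj_cj, hβ, h.conj_p, s5]⟩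
  have nn : n * (n * n) * n⁻¹ = n * n := by group
  rcases h.in_V (k := n * n) (comm_of_conj_eq (by rw [cj_cj, n1, n2]))
    (comm_of_conj_eq (by rw [cj_cj, n2, n1])) (fun i => comm_of_conj_eq (by rw [cj_cj, n3, n4]))
    (fun i => comm_of_conj_eq (by rw [cj_cj, n4, n3])) with e | e | e | e
  · exact ⟨n, e, n1, n3⟩
  · rw [e, n1] at nn; exact absurd nn h.pr.ne
  · rw [e, n2] at nn; exact absurd nn.symm h.pr.ne
  · refine ⟨n * z, ?_, by rw [cj_cj, mul_inv_cancel_right, n1], fun j => by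
      rw [cj_cj, conj_eq_of_comm (h.st.cq (h.p_mem _)).symm, n3]⟩
    calc n * z * (n * z) = n * z * n⁻¹ * (n * n) * z := by group
      _ = 1 := by rw [n1, e, mul_assoc, h.es.zz', h.pr.h1.es.mul_self]

end Fr

/-- the full frame -/
structure Fn (Q Q1 : Subgroup G) (z t : G) (F : G → SS) (q : QuadraticForm (ZMod 2) V8)
    (π : G → V8) (l : SS →* G) (n : G) : Prop extends Fr Q Q1 z t F q π l where
  n2 : n * n = 1
  nz : n * z * n⁻¹ = t
  nu : ∀ j, n * pp l t (uI j) * n⁻¹ = l (AA j)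

namespace Fn

variable {n : G}

theorem n_inv (h : Fn Q Q1 z t F q π l n) : n⁻¹ = n := inv_eq_of_mul_eq_one_right h.n2

theorem swap (h : Fn Q Q1 z t F q π l n) {a b : G} (e : n * a * n⁻¹ = b) : n * b * n⁻¹ = a := by
  rw [← e, ← cj_cj, h.n2]; group

theorem nt (h : Fn Q Q1 z t F q π l n) : n * t * n⁻¹ = z := h.swap h.nz

theorem na (h : Fn Q Q1 z t F q π l n) (j : Fin 3) : n * l (AA j) * n⁻¹ = pp l t (uI j) := h.swap (h.nu j)

theorem nb (h : Fn Q Q1 z t F q π l n) (k : Fin 3) : n * pp l t (eI k) * n⁻¹ = pp l t (eI k) := by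
  have d : ∀ k, ∃ i j, ap (AA j) (uI i) = uI i + eI j ∧ eI k = uI i - eI j ∧
    ap (AA i) (uI j) = uI j + eI i ∧ eI k = uI j - eI i := by decide +kernel
  obtain ⟨i, j, d1, d2, d3, d4⟩ := d k
  calc _ = n * (l (AA j) * pp l t (uI i) * (l (AA j))⁻¹ * (pp l t (uI i))⁻¹) * n⁻¹ := by rw [h.comm_a d1 d2]
    _ = ((n * pp l t (uI i) * n⁻¹) * (n * l (AA j) * n⁻¹) * (n * pp l t (uI i) * n⁻¹)⁻¹ *
      (n * l (AA j) * n⁻¹)⁻¹)⁻¹ := by group
    _ = _ := by rw [h.na, h.nu, h.comm_a d3 d4, h.p_inv]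

theorem a_q0 (h : Fn Q Q1 z t F q π l n) (i : Fin 3) :
    l (AA i) * pp l t (1, 1, 1) * (l (AA i))⁻¹ * (pp l t (1, 1, 1))⁻¹ = pp l t (uI i) :=
  h.comm_a (by revert i; decide +kernel) (by revert i; decide +kernel)

theorem a_u (h : Fn Q Q1 z t F q π l n) (i : Fin 3) : Commute (l (AA i)) (pp l t (uI i)) :=
  h.a_comm (h.p_mem _) (by rw [h.π_p]; clear * -; revert i; decide +kernel)

theorem u_q0 (h : Fn Q Q1 z t F q π l n) (i : Fin 3) : Commute (pp l t (uI i)) (pp l t (1, 1, 1)) :=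
  h.p_comm (by revert i; decide +kernel)

theorem q0_t (h : Fn Q Q1 z t F q π l n) : pp l t (1, 1, 1) * t * (pp l t (1, 1, 1))⁻¹ = t * z :=
  h.es.conj_of_ne h.pr.tQ (h.p_mem _) (by
    rw [Ne, h.comm_iff (h.p_mem _) h.pr.tQ, h.π_p, h.πt]; decide +kernel)

theorem cube (h : Fn Q Q1 z t F q π l n) :
    pp l t (1, 1, 1) * n * (pp l t (1, 1, 1) * n) * (pp l t (1, 1, 1) * n) = 1 := by
  have hz := conj_eq_of_comm (h.st.cq (h.p_mem (1, 1, 1)))
  have ha : ∀ i, pp l t (1, 1, 1) * l (AA i) * (pp l t (1, 1, 1))⁻¹ = l (AA i) * pp l t (uI i) := fun i => by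
    rw [← h.a_q0, ← mul_assoc, ← mul_assoc, ← mul_assoc, Fr.a_sq, one_mul, Fr.a_inv]
  have hu := fun i => conj_eq_of_comm (h.u_q0 i).symm
  set c := pp l t (1, 1, 1)
  have z1 : c * n * z * (c * n)⁻¹ = t * z := by rw [cj_cj, h.nz, h.q0_t]
  have z2 : c * n * t * (c * n)⁻¹ = z := by rw [cj_cj, h.nt, hz]
  have z3 : c * n * (t * z) * (c * n)⁻¹ = t := by rw [cj_mul, z1, z2, h.pr.comm, h.es.zz]
  have u1 : ∀ i, c * n * pp l t (uI i) * (c * n)⁻¹ = l (AA i) * pp l t (uI i) := fun i => by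
    rw [cj_cj, h.nu, ha]
  have u2 : ∀ i, c * n * l (AA i) * (c * n)⁻¹ = pp l t (uI i) := fun i => by rw [cj_cj, h.na, hu]
  have u3 : ∀ i, c * n * (l (AA i) * pp l t (uI i)) * (c * n)⁻¹ = l (AA i) := fun i => by
    rw [cj_mul, u1, u2, (h.a_u i).eq, ← mul_assoc, h.p_sq, one_mul]
  have k : c * n * (c * n * (c * n) * (c * n)) * (c * n)⁻¹ = c * n * (c * n) * (c * n) := by group
  rcases h.in_V (comm_cube z1 z3 z2) (comm_cube z2 z1 z3) (fun i => comm_cube (u1 i) (u3 i) (u2 i))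
    (fun i => comm_cube (u2 i) (u1 i) (u3 i)) with e | e | e | e
  · exact e
  · rw [e, z1] at k; exact absurd (mul_eq_right.mp k) h.pr.t_ne_one
  · rw [e, z2] at k; exact absurd k.symm h.pr.ne
  · rw [e, z3] at k; exact absurd (left_eq_mul.mp k) h.es.ne_one

theorem n_eq (h : Fn Q Q1 z t F q π l n) :
    n = pp l t (1, 1, 1) * (n * pp l t (1, 1, 1) * n) * pp l t (1, 1, 1) := by
  have := h.cube
  rw [← mul_assoc] at this
  exact h.n_inv.symm.trans ((eq_inv_of_mul_eq_one_left this).symm.trans (by group))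

theorem n_D (h : Fn Q Q1 z t F q π l n) : IsConj z n :=
  (h.p_D (1, 1, 1)).trans (isConj_iff.mpr ⟨pp l t (1, 1, 1) * n, by
    rw [mul_inv_rev, h.n_inv, h.p_inv]; nth_rewrite 3 [h.n_eq]; group⟩)

theorem braid [Finite G] (h : Fn Q Q1 z t F q π l n) (i : Fin 3) :
    n * l (NN i) * (n * l (NN i)) * (n * l (NN i)) = 1 := by
  have d : ∀ i, ap (NN i) 0 = eI i ∧ ap (NN i) (eI i) = 0 ∧ NN i * NN i = 1 ∧
    XX i * NN i * (XX i)⁻¹ = AA i ∧ ap (XX i) (0 - eI i) = 0 ∧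
    ∀ j, j ≠ i → NN i * AA j = AA j * NN i ∧ ∃ k, ap (NN i) (uI j) = eI k ∧ ap (NN i) (eI k) = uI j := by
    decide +kernel
  obtain ⟨d1, d2, d3, d4, d5, d6⟩ := d i
  set y := n * l (NN i) with hy
  have z1 : y * z * y⁻¹ = t := by rw [hy, cj_cj, conj_eq_of_comm (h.lz _), h.nz]
  have z2 : y * t * y⁻¹ = pp l t (eI i) := by
    rw [hy, cj_cj]; nth_rewrite 1 [← Fr.p_zero (l := l) (t := t)]; rw [h.conj_p, d1, h.nb]
  have z3 : y * pp l t (eI i) * y⁻¹ = z := by rw [hy, cj_cj, h.conj_p, d2, Fr.p_zero, h.nt]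
  have wz := comm_cube z1 z2 z3
  have wu : ∀ j, j ≠ i → y * y * y * pp l t (uI j) = pp l t (uI j) * (y * y * y) ∧
      y * y * y * pp l t (ap (NN i) (uI j)) = pp l t (ap (NN i) (uI j)) * (y * y * y) := fun j hj => by
    obtain ⟨e1, k, e2, e3⟩ := d6 j hj
    have u1 : y * l (AA j) * y⁻¹ = pp l t (uI j) := by
      rw [hy, cj_cj, conj_eq_of_comm (Commute.map e1 l), h.na]
    have u2 : y * pp l t (uI j) * y⁻¹ = pp l t (eI k) := by rw [hy, cj_cj, h.conj_p, e2, h.nb]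
    have u3 : y * pp l t (eI k) * y⁻¹ = l (AA j) := by rw [hy, cj_cj, h.conj_p, e3, h.nu]
    exact ⟨comm_cube u2 u3 u1, e2 ▸ comm_cube u3 u1 u2⟩
  have d7 : ∀ i, ∀ σ : SS, ap σ 0 = 0 → (∀ j, j ≠ i → ap σ (uI j) = uI j) → σ = 1 := by decide +kernel
  have hw : y * y * y ∈ Q := (h.st.ker _ wz).mp (d7 i _ (h.ap_of_comm wz (comm_cube z2 z3 z1))
    fun j hj => PT_inj _ _ (by rw [← r8_PT, ← h.π_p, h.fix wz (h.p_mem _) (wu j hj).1]))
  have d8 : ∀ i v, b8 v (PT 0) = 0 → b8 v (PT (eI i)) = 0 → (∀ j, j ≠ i → b8 v (PT (uI j)) = 0 ∧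
    b8 v (PT (ap (NN i) (uI j))) = 0) → v = 0 ∨ v = PT 0 ∨ v = PT (eI i) ∨ v = PT 0 + PT (eI i) := by
    decide +kernel
  have d9 : ∀ i, PT 0 ≠ PT (eI i) := by decide +kernel
  have k : y * (y * y * y) * y⁻¹ = y * y * y := by group
  have mb := h.p_mem (eI i)
  have mt := h.pr.tQ
  have mz := h.es.mem
  have n1 := PT_ne 0
  have n2 := PT_ne (eI i)
  have n3 := d9 i
  rcases d8 i (π (y * y * y)) (by rw [← h.πt, ← h.comm_iff hw mt]; exact comm_cube z2 z3 z1)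
    (by rw [← h.π_p, ← h.comm_iff hw mb]; exact comm_cube z3 z1 z2) (fun j hj => by
      rw [← h.π_p, ← h.π_p, ← h.comm_iff hw (h.p_mem _), ← h.comm_iff hw (h.p_mem _)]
      exact wu j hj) with e | e | e | e
  · refine ((h.c.ker _ hw).mp e).resolve_right fun e => ?_
    rw [e, z1] at k; exact h.pr.ne k
  · exfalso
    rcases (h.c.eq_iff mt hw).mp (h.πt.trans e.symm) with e | e <;> rw [e] at k
    · exact n3 (by rw [← h.πt, ← k, z2, h.π_p])
    · have := congrArg π k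
      rw [cj_mul, z2, z1, h.c.map_mul _ mb _ mt, h.c.map_mul_z mt, h.π_p] at this
      exact n2 (add_eq_right.mp this)
  · exfalso
    rcases (h.c.eq_iff mb hw).mp ((h.π_p _).trans e.symm) with e | e <;> rw [e] at k
    · exact n2 (by rw [← h.π_p, ← k, z3, h.c.map_z])
    · have := congrArg π k
      rw [cj_mul, z3, z1, h.c.map_mul _ mz _ mt, h.c.map_mul_z mb, h.π_p, h.c.map_z, zero_add,
        h.πt] at this
      exact n3 this
  · exfalso
    rcases (h.c.eq_iff (Q.mul_mem mt mb) hw).mp (by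
      rw [h.c.map_mul _ mt _ mb, h.πt, h.π_p, e]) with e | e
    · rw [e] at k
      have := congrArg π k
      rw [cj_mul, z2, z3, h.c.map_mul _ mt _ mb, h.c.map_mul_z mb, h.πt] at this
      exact n1 (right_eq_add.mp this)
    · have r := h.p_rel 0 i
      rw [Fr.p_zero, zero_add] at r
      have hN : l (NN i) * l (NN i) = 1 := by rw [← map_mul, d3, map_one]
      have k1 : y * n * y⁻¹ = y * y * y * l (NN i) := by
        rw [hy, mul_inv_rev, h.n_inv, inv_eq_of_mul_eq_one_right hN]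
        simp only [mul_assoc, hN, mul_one]
      have k2 : IsConj z (pp l t (0 - eI i) * z * l (NN i)) :=
        h.n_D.trans (isConj_iff.mpr ⟨y, by rw [k1, e, r]⟩)
      have k3 : IsConj z (t * z * l (AA i)) := k2.trans (isConj_iff.mpr ⟨l (XX i), by
        rw [cj_mul, cj_mul, h.conj_p, d5, Fr.p_zero, conj_eq_of_comm (h.lz _), ← d4, map_mul, map_mul,
          map_inv]⟩)
      refine h.not_both (i := i) (h.p_mem 0) (h.ap_D (by clear * -; revert i; decide)) ?_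
      rwa [Fr.p_zero, mul_assoc, (cz_mul (h.lt (ap_AA i)).symm (h.lz _).symm).symm]

theorem gen (h : Fn Q Q1 z t F q π l n) {K : Subgroup G} (hl : ∀ σ, l σ ∈ K)
    (hc : pp l t (1, 1, 1) ∈ K) {m : G} (hm : m * z = z * m) : m ∈ K := by
  have h1 : ∀ α, pp l t α ∈ K := fun α => by
    have := h.conj_p (xs (α - (1, 1, 1))) (1, 1, 1)
    rw [ap_xs, add_sub_cancel] at this
    rw [← this]; exact mul_mem (mul_mem (hl _) hc) (inv_mem (hl _))
  have ht : t ∈ K := Fr.p_zero (l := l) (t := t) ▸ h1 0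
  have hz : z ∈ K := by
    have := mul_mem (inv_mem ht) (mul_mem (mul_mem hc ht) (inv_mem hc))
    rwa [h.q0_t, inv_mul_cancel_left] at this
  have h2 : ∀ v, ∃ x ∈ Q, x ∈ K ∧ π x = v := ind8 ⟨1, one_mem _, one_mem _, h.c.map_one⟩
    (fun α => ⟨_, h.p_mem α, h1 α, h.π_p α⟩) fun v w ⟨x, hx, hx', e⟩ ⟨y, hy, hy', e'⟩ =>
      ⟨x * y, mul_mem hx hy, mul_mem hx' hy', by rw [h.c.map_mul _ hx _ hy, e, e']⟩
  have h3 := h.st.mem_of_eq (h.lz (F m)) hm (h.lF _)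
  obtain ⟨x, hx, hx', e⟩ := h2 (π ((l (F m))⁻¹ * m))
  rw [← mul_inv_cancel_left (l (F m)) m]
  refine mul_mem (hl _) ?_
  rcases (h.c.eq_iff hx h3).mp e with e | e <;> rw [e]
  exacts [hx', mul_mem hx' hz]

theorem iso [Finite G] (h : Fn Q Q1 z t F q π l n)
    (htop : ∀ K : Subgroup G, (∀ m, m * z = z * m → m ∈ K) → n ∈ K → K = ⊤) :
    Nonempty (G ≃* Cfsg.Omega (ZMod 2) (Cfsg.quadFormPlus 4 (ZMod 2))) := by
  have : Nontrivial G := ⟨⟨z, 1, h.es.ne_one⟩⟩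
  have hN : ∀ i, l (NN i) * l (NN i) = 1 := fun i => by
    rw [← map_mul, show NN i * NN i = 1 by revert i; decide +kernel, map_one]
  have hN' := fun i => inv_eq_of_mul_eq_one_right (hN i)
  refine recog ?_ (fun i => l (AA i)) (fun i => l (NN i)) (fun i => pp l t (uI i)) (pp l t (1, 1, 1)) n
    Fr.a_sq hN h.n2 (fun i => ?_) (fun i => by rw [← h.na, h.n_inv]) (fun i => ?_) h.a_q0 h.a_u h.u_q0
    (fun i j hij => ⟨(AA_comm i j).map l, Commute.map ?_ l, Commute.map ?_ l⟩) fun K h1 h2 h3 => ?_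
  · rw [eq_bot_iff]
    intro c hc
    rw [mem_center_iff] at hc
    refine (h.st.pre.cent c fun x _ => hc x).resolve_right fun e => h.pr.ne ?_
    rw [← h.nz, ← e, hc n, mul_inv_cancel_right]
  · have := h.braid i
    rw [← mul_assoc, ← mul_assoc] at this
    have e := eq_inv_of_mul_eq_one_left (show n * l (NN i) * n * (l (NN i) * n * l (NN i)) = 1 by
      rw [← this]; group)
    rw [e, mul_inv_rev, mul_inv_rev, hN', h.n_inv, mul_assoc]
  · nth_rewrite 2 [← hN']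
    rw [h.conj_p]; congr 1; revert i; decide +kernel
  · exact (by decide +kernel : ∀ i j, i ≠ j → AA i * NN j = NN j * AA i) i j hij
  · exact (by decide +kernel : ∀ i j, i ≠ j → NN i * NN j = NN j * NN i) i j hij
  · have hl : ∀ σ, l σ ∈ K := indSS (fun i => by
      rw [show XX i = AA i * (NN i * AA i * NN i) by revert i; decide +kernel, map_mul, map_mul, map_mul]
      exact mul_mem (h1 i).1 (h1 i).2) (fun i => (h1 i).1) fun a b ha hb => by
        rw [map_mul]; exact mul_mem ha hb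
    exact htop K (fun m hm => h.gen hl h2 hm) (h.n_eq ▸ mul_mem (mul_mem h2 h3) h2)

end Fn

end CfsgLib.O8R
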