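import Mathlib
import Cfsg.Agent.Lib.O8R.Weyl
import Cfsg.Agent.Lib.Invol.Dihedral
import Cfsg.Agent.Lib.Tech.SylowIn

/-! `C(z)` and the Weyl element generate the group. -/

set_option autoImplicit false
set_option synthInstance.maxSize 2048
set_option Elab.async false

namespace CfsgLib.O8R

open CfsgLib.ExtraTwo CfsgLib.LargeExtra CfsgLib.W4 CfsgLib.Tech Subgroup QuadraticMap

variable {G : Type*} [Group G]

theorem dih [Finite G] {a b : G} (ha : a * a = 1) (hb : b * b = 1) :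
    (∃ w ∈ closure ({a, b} : Set G), w * a * w⁻¹ = b) ∨ ∃ c ∈ closure ({a, b} : Set G), c ≠ 1 ∧
      c * c = 1 ∧ c * a = a * c ∧ c * b = b * c ∧
      ∃ w ∈ closure ({a, b} : Set G), w * b * w⁻¹ = b * c ∨ w * b * w⁻¹ = a * c := by
  rcases Nat.even_or_odd (orderOf (b * a)) with e | e
  · have h1 := Invol.orderOf_pow_half e
    generalize orderOf (b * a) / 2 = k at h1
    have h2 := Invol.mul_self_of_orderOf_two h1
    have h3 := Invol.commute_of_inverts (Invol.conj_mul_eq_inv hb ha) k h2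
    have h4 : a = b * (b * a) := by rw [← mul_assoc, hb, one_mul]
    rw [Set.pair_comm]
    refine Or.inr ⟨(b * a) ^ k, (Invol.mem_closure_pair_iff hb ha _).2 ⟨k, Or.inl (by simp)⟩,
      Invol.ne_one_of_orderOf_two h1, h2, ?_, h3, ?_⟩
    · nth_rewrite 2 [h4]; nth_rewrite 3 [h4]
      exact (h3.mul_right (Commute.pow_self _ k)).eq
    · rcases Nat.even_or_odd' k with ⟨j, rfl | rfl⟩
      · obtain ⟨w, hw, e⟩ := (Invol.exists_conj_in_closure_iff hb ha (b * (b * a) ^ (2 * j))).2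
          ⟨j, by norm_cast⟩
        exact ⟨w, hw, Or.inl e⟩
      · obtain ⟨w, hw, e⟩ := (Invol.exists_conj_in_closure_iff hb ha (a * (b * a) ^ (2 * j + 1))).2
          ⟨j + 1, by nth_rewrite 1 [h4]; rw [mul_assoc, ← pow_succ']; norm_cast⟩
        exact ⟨w, hw, Or.inr e⟩
  · obtain ⟨w, hw, e⟩ := Invol.exists_conj_of_odd hb ha e
    rw [Set.pair_comm] at hw
    exact Or.inl ⟨w⁻¹, inv_mem hw, by rw [← e]; group⟩

theorem comm_cl {a b x w : G} (ha : a * x = x * a) (hb : b * x = x * b)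
    (hw : w ∈ closure ({a, b} : Set G)) : w * x = x * w :=
  mem_cent.mp ((closure_le (centralizer ({x} : Set G))).2 (by
    rintro _ (rfl | rfl); exacts [mem_cent.mpr ha, mem_cent.mpr hb]) hw)

theorem cj_sq {a : G} (ha : a * a = 1) (g : G) : g * a * g⁻¹ * (g * a * g⁻¹) = 1 := by
  rw [← cj_mul, ha]; group

theorem cj_comm {a b : G} (h : a * b = b * a) (g : G) :
    g * a * g⁻¹ * (g * b * g⁻¹) = g * b * g⁻¹ * (g * a * g⁻¹) := by rw [← cj_mul, h, cj_mul]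

/-- `H` is the only conjugate under `C(u)` containing `x` -/
def UC (H : Subgroup G) (u x : G) : Prop := x ∈ H ∧ ∀ g, g * u = u * g → g * x * g⁻¹ ∈ H → g ∈ H

variable {H : Subgroup G} {u x z : G}

theorem UC.conj (h : UC H u x) {m : G} (hm : m ∈ H) (hu : m * u = u * m) : UC H u (m * x * m⁻¹) :=
  ⟨mul_mem (mul_mem hm h.1) (inv_mem hm), fun g hg e =>
    (H.mul_mem_cancel_right hm).1 (h.2 (g * m) (cz_mul hg hu) (by rwa [cj_cj]))⟩

theorem UC.of_one (h : UC H 1 x) : UC H u x := ⟨h.1, fun g _ => h.2 g (by simp)⟩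

theorem UC.of_conj (h : UC H u x) {m : G} (hu : m * u = u * m) (hm : m * x * m⁻¹ ∈ H) :
    UC H u (m * x * m⁻¹) := h.conj (h.2 m hu hm) hu

theorem UC.mem (h : UC H u x) {g : G} (hu : g * u = u * g) (hx : g * x = x * g) : g ∈ H :=
  h.2 g hu (by rw [conj_eq_of_comm hx]; exact h.1)

/-- an element centralizing a conjugate of `z` -/
theorem UC.mem' (h : UC H u x) (hz : UC H 1 z) {g : G} (hu : g * u = u * g)
    (hx : x * (g * z * g⁻¹) = g * z * g⁻¹ * x) : g ∈ H := by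
  refine H.inv_mem_iff.1 (h.2 _ (cz_inv hu) (hz.mem (by simp) ?_))
  have := cj_comm hx g⁻¹
  rwa [show g⁻¹ * (g * z * g⁻¹) * g⁻¹⁻¹ = z by group] at this

/-- products of commuting conjugates -/
def PR (H : Subgroup G) (u z : G) : Prop :=
  ∀ g, g * u = u * g → g * z * g⁻¹ * z = z * (g * z * g⁻¹) → g * z * g⁻¹ ≠ z → UC H u (z * (g * z * g⁻¹))

theorem PR.uc (hp : PR H u z) (hz2 : z * z = 1) {g w c : G} (hg : g * u = u * g)
    (hw : w * u = u * w) (h1 : c ≠ 1) (h2 : c * (g * z * g⁻¹) = g * z * g⁻¹ * c)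
    (e : w * z * w⁻¹ = g * z * g⁻¹ * c) : UC H u (g⁻¹ * c * g) := by
  have e1 : g⁻¹ * w * z * (g⁻¹ * w)⁻¹ = z * (g⁻¹ * c * g) := by rw [cj_cj, e]; group
  have e2 : g⁻¹ * c * g * z = z * (g⁻¹ * c * g) := by
    calc _ = g⁻¹ * (c * (g * z * g⁻¹)) * g := by group
      _ = _ := by rw [h2]; group
  have := hp (g⁻¹ * w) (cz_mul (cz_inv hg) hw) (by rw [e1, mul_assoc, e2]) (by
    rw [e1]; intro e3; exact h1 (by simpa [mul_assoc, inv_mul_eq_one] using e3))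
  rwa [e1, ← mul_assoc, hz2, one_mul] at this

theorem PR.mem (hp : PR H u z) (hz2 : z * z = 1) {g w c : G} (hg : g * u = u * g)
    (hw : w * u = u * w) (h1 : c ≠ 1) (h2 : c * (g * z * g⁻¹) = g * z * g⁻¹ * c) (hc : c ∈ H)
    (e : w * (g * z * g⁻¹) * w⁻¹ = g * z * g⁻¹ * c) : g ∈ H :=
  (hp.uc hz2 hg (cz_mul hw hg) h1 h2 (by rw [cj_cj, e])).2 g hg (by simpa [mul_assoc] using hc)

theorem PR.odd [Finite G] (hp : PR H u z) (hz2 : z * z = 1) (hz : UC H 1 z) (hzu : z * u = u * z)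
    {g1 g2 c : G} (h1 : g1 * u = u * g1) (h2 : g2 * u = u * g2) (m1 : g1 ∈ H) (m2 : g2 ∉ H)
    (c1 : g1 * z * g1⁻¹ * c = c * (g1 * z * g1⁻¹)) (c2 : g2 * z * g2⁻¹ * c = c * (g2 * z * g2⁻¹)) :
    IsConj (g1 * z * g1⁻¹ * c) (g2 * z * g2⁻¹ * c) := by
  have u1 := cz_conj h1 hzu
  have u2 := cz_conj h2 hzu
  rcases dih (cj_sq hz2 g1) (cj_sq hz2 g2) with ⟨w, hw, e⟩ | ⟨e, he, e1, -, e3, e4, w, hw, e5⟩
  · exact isConj_iff.2 ⟨w, by rw [cj_mul, e, conj_eq_of_comm (comm_cl c1 c2 hw)]⟩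
  · refine absurd ?_ m2
    have wu := comm_cl u1 u2 hw
    rcases e5 with e5 | e5
    · exact hp.mem hz2 h2 wu e1 e4 ((hz.conj m1 (by simp)).mem (by simp) e3) e5
    · have := (hp.uc hz2 h1 (cz_mul wu h2) e1 e3 (by rw [cj_cj, e5])).conj m1 h1
      rw [show g1 * (g1⁻¹ * e * g1) * g1⁻¹ = e by group] at this
      exact this.mem' hz h2 e4

theorem exists_conj_M [Finite G] {Q : Subgroup G} (h : Pre Q z) (hM : ∀ m, m * z = z * m → m ∈ H)
    {y : G} (hy : y ∈ H) (h2 : y * y = 1) : ∃ g ∈ H, g * y * g⁻¹ * z = z * (g * y * g⁻¹) := by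
  obtain ⟨P, -, hP⟩ := h.exists_sylow
  obtain ⟨g, hg, e⟩ := (IsSylowIn.of_sylow P fun x hx => hM x (mem_cent.mp (hP hx))).exists_conj_mem hy
    (fun x => ⟨1, by
      obtain ⟨_, k, rfl⟩ := x
      ext; simp only [pow_one, SubgroupClass.coe_pow, OneMemClass.coe_one]
      rw [← zpow_natCast, ← zpow_mul, mul_comm, zpow_mul, zpow_natCast, pow_two, h2, one_zpow]⟩)
  exact ⟨g, hg, mem_cent.mp (hP e)⟩

theorem uc_of_cent [Finite G] {Q : Subgroup G} (h : Pre Q z) (hz : UC H 1 z) (h2 : x * x = 1)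
    (hx : ∀ g, g * x = x * g → g ∈ H) : UC H 1 x := by
  refine ⟨hx x rfl, fun g _ hg => ?_⟩
  obtain ⟨m, hm, e⟩ := exists_conj_M h (fun m => hz.mem (by simp)) hg (cj_sq h2 g)
  have := cj_comm e (m * g)⁻¹
  rw [← cj_cj, ← cj_cj, show (m * g)⁻¹ * m * g = 1 by group, one_mul, inv_one, mul_one] at this
  exact (H.mul_mem_cancel_left hm).1 (H.inv_mem_iff.1 (hz.2 _ (by simp) (hx _ this.symm)))

variable {Q Q1 : Subgroup G} {t : G} {F : G → SS} {q : QuadraticForm (ZMod 2) V8} {π : G → V8}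
  {l : SS →* G} {n : G}

namespace Fn

theorem nb' (h : Fn Q Q1 z t F q π l n) (y : G) (hy : y * z = z * y) (h2 : y * y = 1) {i : Fin 3}
    (e : F y = AA i) : IsConj z y ↔ ¬ IsConj z (y * z) := by
  refine ⟨fun hc => ?_, fun hc => ?_⟩
  · obtain ⟨x, hx, rfl⟩ := h.exists_a_conj hy e hc
    exact h.conj_az hx
  · obtain ⟨x, hx, e1⟩ := h.exists_conj_or (h.lz (AA i)) (Fr.a_sq i) (by rw [h.lF, ap_AA])
      (by rw [h.lF]; exact AA_ne i) hy (by rw [h.lF, e]) (Or.inl h2)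
    have := (h.lD i).trans (isConj_iff.mpr ⟨x⁻¹, rfl⟩)
    rw [inv_inv] at this
    rcases e1 with rfl | rfl
    · exact this
    · exact absurd (by rwa [mul_assoc, h.es.mul_self, mul_one]) hc

theorem nl (h : Fn Q Q1 z t F q π l n) {σ : SS} (e : ap σ 0 = 0) : ∃ a b c : Fin 2,
    σ = AA 0 ^ a.val * AA 1 ^ b.val * AA 2 ^ c.val ∧ n * l σ * n⁻¹ ∈ Q ∧
      π (n * l σ * n⁻¹) = a.val • PT (uI 0) + b.val • PT (uI 1) + c.val • PT (uI 2) := by
  have d : ∀ σ : SS, ap σ 0 = 0 → ∃ a b c : Fin 2, σ = AA 0 ^ a.val * AA 1 ^ b.val * AA 2 ^ c.val := by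
    decide +kernel
  obtain ⟨a, b, c, rfl⟩ := d σ e
  have k : ∀ i (a : Fin 2), n * l (AA i) ^ a.val * n⁻¹ ∈ Q ∧
      π (n * l (AA i) ^ a.val * n⁻¹) = a.val • PT (uI i) := fun i a => by
    fin_cases a
    · simp [h.c.map_one]
    · simp [h.na, h.p_mem, h.π_p]
  refine ⟨a, b, c, rfl, ?_⟩
  simp only [map_mul, map_pow, cj_mul]
  exact ⟨mul_mem (mul_mem (k 0 a).1 (k 1 b).1) (k 2 c).1, by
    rw [h.c.map_mul _ (mul_mem (k 0 a).1 (k 1 b).1) _ (k 2 c).1, h.c.map_mul _ (k 0 a).1 _ (k 1 b).1,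
      (k 0 a).2, (k 1 b).2, (k 2 c).2]⟩

/-- involutions of `C(z)` outside `Q` -/
theorem out (h : Fn Q Q1 z t F q π l n) {y : G} (hy : y * z = z * y) (h2 : y * y = 1) (hQ : y ∉ Q) :
    ∃ m σ, m * z = z * m ∧ ap σ 0 = 0 ∧ σ ≠ 1 ∧ (m * y * m⁻¹ = l σ ∨ m * y * m⁻¹ = l σ * z) := by
  have d : ∀ σ : SS, σ * σ = 1 → ∃ α, ap ((xs α)⁻¹ * σ * xs α) 0 = 0 ∧
    ((xs α)⁻¹ * σ * xs α = 1 → σ = 1) := by decide +kernel
  obtain ⟨α, d1, d2⟩ := d (F y) (by rw [← h.st.mul _ _ hy hy, h2, h.st.FQ (one_mem _)])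
  set σ := (xs α)⁻¹ * F y * xs α with hσ
  have h1 : σ ≠ 1 := fun e => hQ ((h.st.ker y hy).1 (d2 e))
  have d : ∀ σ : SS, ap σ 0 = 0 → σ * σ = 1 := by decide +kernel
  obtain ⟨x, hx, e⟩ := h.exists_conj_or (h.lz σ) (by rw [← map_mul, d σ d1, map_one])
    (by rwa [h.lF]) (by rwa [h.lF]) (cz_conj (h.lz (xs α)⁻¹) hy)
    (by rw [h.st.conjF (h.lz _) hy, h.lF, h.lF, inv_inv]) (Or.inl (cj_sq h2 _))
  refine ⟨x * l (xs α)⁻¹, σ, cz_mul (h.st.cq hx) (h.lz _), d1, h1, ?_⟩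
  rw [cj_cj]
  refine e.imp (fun e => by rw [e]; group) fun e => ?_
  rw [e, cj_mul, conj_eq_of_comm (h.st.cq hx)]; group

theorem into_Q [Finite G] (h : Fn Q Q1 z t F q π l n) (hM : ∀ m, m * z = z * m → m ∈ H) (hn : n ∈ H)
    {y : G} (hy : y ∈ H) (h2 : y * y = 1) : ∃ g ∈ H, g * y * g⁻¹ ∈ Q := by
  obtain ⟨g, hg, e⟩ := exists_conj_M h.st.pre hM hy h2
  by_cases hQ : g * y * g⁻¹ ∈ Q
  · exact ⟨g, hg, hQ⟩
  obtain ⟨m, σ, hm, h0, -, e1⟩ := h.out e (cj_sq h2 g) hQ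
  obtain ⟨-, -, -, -, k, -⟩ := h.nl h0
  refine ⟨n * m * g, mul_mem (mul_mem hn (hM m hm)) hg, ?_⟩
  rw [cj_cj, cj_cj]
  rcases e1 with e1 | e1 <;> rw [e1]
  exacts [k, by rw [cj_mul, h.nz]; exact mul_mem k h.pr.tQ]

theorem uc_z [Finite G] (h : Fn Q Q1 z t F q π l n) (hM : ∀ m, m * z = z * m → m ∈ H) (hn : n ∈ H) :
    UC H 1 z := by
  refine ⟨hM z rfl, fun g _ hg => ?_⟩
  obtain ⟨k, hk, e⟩ := h.into_Q hM hn hg (cj_sq h.es.mul_self g)
  rw [← cj_cj] at e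
  refine (H.mul_mem_cancel_left hk).1 ?_
  by_cases e1 : k * g * z * (k * g)⁻¹ = z
  · exact hM _ (comm_of_conj_eq e1)
  obtain ⟨α, hα⟩ := h.PT_of_isConj e (isConj_iff.mpr ⟨_, rfl⟩) e1
  obtain ⟨m, hm, -, e2⟩ := h.exists_conj_t e hα
  rw [← h.nz, ← cj_cj] at e2
  refine (H.mul_mem_cancel_left (inv_mem (mul_mem (hM m hm) hn))).1 (hM _ (comm_of_conj_eq ?_))
  rw [cj_cj, ← e2]; group

theorem classify [Finite G] (h : Fn Q Q1 z t F q π l n) {y : G} (hy : y * z = z * y) (hc : IsConj z y)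
    (hQ : y ∉ Q) : ∃ m j, m * z = z * m ∧ y = m * l (AA j) * m⁻¹ := by
  obtain ⟨g, rfl⟩ := isConj_iff.mp hc
  obtain ⟨m, σ, hm, h0, h1, e⟩ := h.out hy (cj_sq h.es.mul_self g) hQ
  obtain ⟨a, b, c, e0, k1, k2⟩ := h.nl h0
  have d : ∀ a b c : Fin 2, AA 0 ^ a.val * AA 1 ^ b.val * AA 2 ^ c.val ≠ 1 → ∀ v,
      (v = a.val • PT (uI 0) + b.val • PT (uI 1) + c.val • PT (uI 2) ∨
        v = a.val • PT (uI 0) + b.val • PT (uI 1) + c.val • PT (uI 2) + PT 0) →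
      (v = 0 ∨ ∃ α, v = PT α) → ∃ j, AA 0 ^ a.val * AA 1 ^ b.val * AA 2 ^ c.val = AA j := by
    decide +kernel
  have k3 : n * (m * (g * z * g⁻¹) * m⁻¹) * n⁻¹ ∈ Q := by
    rcases e with e | e <;> rw [e]
    exacts [k1, by rw [cj_mul, h.nz]; exact mul_mem k1 h.pr.tQ]
  obtain ⟨j, hj⟩ := d a b c (e0 ▸ h1) (π (n * (m * (g * z * g⁻¹) * m⁻¹) * n⁻¹))
    (e.imp (fun e => by rw [e, k2]) fun e => by
      rw [e, cj_mul, h.nz, h.c.map_mul _ k1 _ h.pr.tQ, k2, h.πt]) (by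
      by_cases e1 : n * (m * (g * z * g⁻¹) * m⁻¹) * n⁻¹ = z
      · left; rw [e1, h.c.map_z]
      · exact Or.inr (h.PT_of_isConj k3 (isConj_iff.mpr ⟨n * m * g, by group⟩) e1))
  obtain ⟨x, hx, e1⟩ := h.exists_a_conj (i := j) (cz_conj hm hy) (by
    rcases e with e | e <;> rw [e]
    · rw [h.lF, e0, hj]
    · rw [h.st.mul _ _ (h.lz _) rfl, h.lF, h.st.FQ h.es.mem, mul_one, e0, hj])
    (isConj_iff.mpr ⟨m * g, cj_cj _ _ _⟩)
  exact ⟨(x * m)⁻¹, j, cz_inv (cz_mul (h.st.cq hx) hm), by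
    rw [← mul_left_cancel_iff (a := m), ← mul_right_cancel_iff (a := m⁻¹), e1]; group⟩

theorem zD [Finite G] (h : Fn Q Q1 z t F q π l n) {y : G} (hQ : y ∈ Q) (hc : IsConj z y) (hne : y ≠ z) :
    IsConj z (z * y) := by
  obtain ⟨α, hα⟩ := h.PT_of_isConj hQ hc hne
  rw [← h.st.cq hQ]
  exact h.isConj_of_PT (mul_mem hQ h.es.mem) ((h.c.map_mul_z hQ).trans hα)

theorem cent_u [Finite G] (h : Fn Q Q1 z t F q π l n) (hM : ∀ m, m * z = z * m → m ∈ H) (hn : n ∈ H)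
    {k k' : Fin 3} (hk : k ≠ k') {g : G}
    (hg : g * (pp l t (eI k) * pp l t (eI k')) = pp l t (eI k) * pp l t (eI k') * g) : g ∈ H := by
  have hz := h.uc_z hM hn
  have hD : ∀ y ∈ H, IsConj z y → UC H 1 y := fun y hy hc => by
    obtain ⟨g, rfl⟩ := isConj_iff.mp hc
    exact hz.of_conj (by simp) hy
  have z2 := h.es.mul_self
  have ha := h.p_mem (eI k)
  have hau : pp l t (eI k) * (pp l t (eI k) * pp l t (eI k')) = pp l t (eI k') := by
    rw [← mul_assoc, h.p_sq, one_mul]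
  have cu : ∀ α, b8 (PT α) (PT (eI k)) = 0 → b8 (PT α) (PT (eI k')) = 0 →
      pp l t α * (pp l t (eI k) * pp l t (eI k')) = pp l t (eI k) * pp l t (eI k') * pp l t α :=
    fun α e e' => (Commute.mul_right (h.p_comm e) (h.p_comm e')).eq
  have au := cu (eI k) (by clear * -; revert k; decide +kernel) (by clear * -; revert k k'; decide +kernel)
  have u2 : pp l t (eI k) * pp l t (eI k') * (pp l t (eI k) * pp l t (eI k')) = 1 := by
    rw [← mul_assoc, ← au, hau, h.p_sq]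
  have qu := cu (1, 1, 1) (by clear * -; revert k; decide +kernel) (by clear * -; revert k'; decide +kernel)
  have nu : n * (pp l t (eI k) * pp l t (eI k')) = pp l t (eI k) * pp l t (eI k') * n :=
    comm_of_conj_eq (by rw [cj_mul, h.nb, h.nb])
  have uQ := mul_mem ha (h.p_mem (eI k'))
  have πu := h.c.map_mul _ ha _ (h.p_mem (eI k'))
  rw [h.π_p, h.π_p] at πu
  generalize pp l t (eI k) * pp l t (eI k') = u at *
  have zu := (h.st.cq uQ).symm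
  have nD : ¬ IsConj z (z * u) := fun hc => by
    have d : ∀ k k', k ≠ k' → PT (eI k) + PT (eI k') ≠ 0 ∧ ∀ α, PT (eI k) + PT (eI k') ≠ PT α := by
      decide +kernel
    have e : π (z * u) = PT (eI k) + PT (eI k') := by rw [zu, h.c.map_mul_z uQ, πu]
    obtain ⟨α, hα⟩ := h.PT_of_isConj (mul_mem h.es.mem uQ) hc fun e1 =>
      (d k k' hk).1 (by rw [← e, e1, h.c.map_z])
    exact (d k k' hk).2 α (e ▸ hα)
  have nD' : ∀ g, g * u = u * g → ¬ IsConj z (g * z * g⁻¹ * u) := fun g hg hc => nD (hc.trans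
    (isConj_iff.mpr ⟨g⁻¹, by rw [cj_mul, conj_eq_of_comm (cz_inv hg)]; group⟩))
  have cl : ∀ y, y * z = z * y → IsConj z y → y ∉ Q → y * u = u * y → ∃ i, F y = AA i := by
    intro y hy hc hQ hu
    obtain ⟨m, j, hm, e⟩ := h.classify hy hc hQ
    have d : ∀ k k', k ≠ k' → ∀ (τ : SS) j, r8 (τ * AA j * τ⁻¹) (PT (eI k) + PT (eI k')) =
      PT (eI k) + PT (eI k') → ∃ i, τ * AA j * τ⁻¹ = AA i := by decide +kernel
    have e1 : F y = F m * AA j * (F m)⁻¹ := by rw [e, h.st.conjF hm (h.lz _), h.lF]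
    rw [e1]
    exact d k k' hk _ _ (by rw [← e1, ← πu]; exact h.fix hy uQ hu)
  have hp : PR H u z := fun g hg hc hne => by
    have hc' : IsConj z (g * z * g⁻¹) := isConj_iff.mpr ⟨g, rfl⟩
    have gu := cz_conj hg zu
    by_cases hQ : g * z * g⁻¹ ∈ Q
    · exact (hD _ (hM _ (cz_mul rfl hc)) (h.zD hQ hc' hne)).of_one
    obtain ⟨i, hi⟩ := cl _ hc hc' hQ gu
    have k1 := cz_mul hc zu.symm
    have k2 := hD _ (hM _ (cz_mul k1 rfl)) (not_not.mp (mt (h.nb' _ k1 (by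
      rw [(Commute.symm gu).mul_mul_mul_comm, cj_sq z2, u2, one_mul])
      (by rw [h.st.mul _ _ hc zu.symm, hi, h.st.FQ uQ, mul_one])).2 (nD' g hg)))
    refine ⟨hM _ (cz_mul rfl hc), fun w hw e => k2.2 w (by simp) ?_⟩
    rw [k1, ← mul_assoc z, cj_mul, conj_eq_of_comm hw]
    exact mul_mem e (hM _ zu.symm)
  by_contra hgH
  have aU := hD _ (hM _ (h.st.cq ha)) (h.p_D (eI k))
  have gu := cz_conj hg zu
  rcases dih (h.p_sq (eI k)) (cj_sq z2 g) with ⟨w, hw, e⟩ | ⟨c, hc, c1, c2, c3, c4, w, hw, e⟩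
  · refine nD' g hg ((h.p_D (eI k')).trans (isConj_iff.mpr ⟨w, ?_⟩))
    rw [← hau, cj_mul, e, conj_eq_of_comm (comm_cl au gu hw)]
  have wu := comm_cl au gu hw
  have cH := aU.mem (by simp) c3
  rcases e with e | e
  · exact hgH (hp.mem z2 hg wu c1 c4 cH e)
  rw [← cj_cj] at e
  have k1 : w * g ∈ H := hz.2 _ (by simp) (e ▸ mul_mem aU.1 cH)
  have k2 := cz_inv (cz_mul wu hg)
  generalize w * g = v at e k1 k2
  obtain ⟨b, hb⟩ : ∃ b, b = v⁻¹ * c * v⁻¹⁻¹ := ⟨_, rfl⟩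
  have b1 : z * b = v⁻¹ * pp l t (eI k) * v⁻¹⁻¹ := by
    rw [hb, ← mul_one (pp l t (eI k)), ← c2, ← mul_assoc (pp l t (eI k)), ← e]; group
  have b2 : b * z = z * b := by
    have := cj_comm (show c * (pp l t (eI k) * c) = pp l t (eI k) * c * c by rw [← mul_assoc, c3]) v⁻¹
    rwa [← e, ← hb, show v⁻¹ * (v * z * v⁻¹) * v⁻¹⁻¹ = z by group] at this
  have b3 := cj_comm c4 v⁻¹
  rw [← hb, ← cj_cj] at b3
  have b4 : v⁻¹ * g ∉ H := fun e => hgH ((H.mul_mem_cancel_left (inv_mem k1)).1 e)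
  have b5 := cz_mul k2 hg
  have b6 : IsConj z (z * b) := b1 ▸ (h.p_D _).trans (isConj_iff.mpr ⟨_, rfl⟩)
  have b7 := cz_mul rfl b2
  have bD : ¬ IsConj z b := fun e => b4 ((hD b (hM b b2) e).mem' hz (by simp) b3)
  obtain ⟨i, hi⟩ := cl _ b7 b6 (fun hQ => bD (by
    have := h.zD hQ b6 fun e => c1 (by rw [mul_eq_left, hb] at e; exact conj_eq_one_iff.mp e)
    rwa [← mul_assoc, z2, one_mul] at this)) (b1 ▸ cz_conj k2 au)
  obtain ⟨x, hx, e1⟩ := h.exists_a_conj b7 hi b6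
  have bt : t * b = b * t := by
    have : z * b * t = t * (z * b) := by
      have e2 := h.a_comm (i := i) (h.norm (h.st.cq hx) h.pr.tQ) (by
        rw [h.π_x (h.st.cq hx) (h.st.FQ hx), r8_PT, ap_one, ap_AA])
      have := cj_comm e2 x⁻¹
      rwa [inv_inv, ← e1, show x⁻¹ * (x * t * x⁻¹) * x = t by group] at this
    rw [← mul_assoc, h.st.cq h.pr.tQ, mul_assoc, mul_assoc, mul_left_cancel_iff] at this
    exact this.symm
  have o := fun g1 h1 m1 c1 => (hp.odd z2 hz zu (g1 := g1) h1 b5 m1 b4 c1 b3.symm).symm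
  have o1 := o 1 (by simp) (one_mem _) (by simpa using b2.symm)
  have o2 := o n nu hn (by rwa [h.nz])
  have o3 := o (pp l t (1, 1, 1) * n) (cz_mul qu nu) (mul_mem (hM _ (h.st.cq (h.p_mem _))) hn) (by
    rw [cj_cj, h.nz, h.q0_t]; exact cz_mul bt b2.symm)
  rw [cj_cj _ n, h.nz, h.q0_t, mul_assoc t] at o3
  rw [h.nz] at o2
  rw [one_mul, inv_one, mul_one] at o1
  have tz := h.st.cq h.pr.tQ
  have o4 := b6.trans (o1.symm.trans o3)
  refine (h.nb' _ (cz_mul tz b7) (by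
    obtain ⟨r, hr⟩ := isConj_iff.mp o4
    rw [← hr, cj_sq z2]) (by rw [h.st.mul _ _ tz b7, h.st.FQ h.pr.tQ, hi, one_mul])).1 o4 ?_
  rw [mul_assoc, b7, ← mul_assoc z, z2, one_mul]
  exact b6.trans (o1.symm.trans o2)

theorem top [Finite G] (h : Fn Q Q1 z t F q π l n) (H : Subgroup G) (hM : ∀ m, m * z = z * m → m ∈ H)
    (hn : n ∈ H) : H = ⊤ := by
  have hz := h.uc_z hM hn
  have z2 := h.es.mul_self
  have ua : ∀ j, UC H 1 (z * l (AA j)) := fun j => by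
    have d : ∀ j, ∃ k k', k ≠ k' ∧ ap (NN k) (eI k) = 0 ∧ ap (NN k) (eI k') = uI j := by decide +kernel
    obtain ⟨k, k', d1, d2, d3⟩ := d j
    have := ((uc_of_cent h.st.pre hz (by
      rw [(Commute.symm (h.p_comm (by clear * -; revert k k'; decide +kernel))).mul_mul_mul_comm,
        h.p_sq, h.p_sq, one_mul]) fun g => h.cent_u hM hn d1).conj (hM _ (h.lz (NN k)))
        (by simp)).conj hn (by simp)
    rwa [cj_mul (l _), h.conj_p, h.conj_p, d2, d3, Fr.p_zero, cj_mul, h.nt, h.nu] at this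
  have hp : PR H 1 z := fun g _ hc hne => by
    have hc' : IsConj z (g * z * g⁻¹) := isConj_iff.mpr ⟨g, rfl⟩
    by_cases hQ : g * z * g⁻¹ ∈ Q
    · obtain ⟨w, hw⟩ := isConj_iff.mp (h.zD hQ hc' hne)
      rw [← hw]
      exact hz.of_conj (by simp) (hw ▸ hM _ (cz_mul rfl hc))
    obtain ⟨m, j, hm, e⟩ := h.classify hc hc' hQ
    have := (ua j).conj (hM m hm) (by simp)
    rwa [cj_mul, conj_eq_of_comm hm, ← e] at this
  rw [eq_top_iff]
  intro g _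
  by_contra hg
  have u2 : z * l (AA 0) * (z * l (AA 0)) = 1 := by
    rw [Commute.mul_mul_mul_comm (h.lz _), z2, Fr.a_sq, one_mul]
  rcases dih u2 (cj_sq z2 g) with ⟨w, -, e⟩ | ⟨c, hc, c1, c2, c4, c3, w, hw, e⟩
  · exact h.lD' 0 (isConj_iff.mpr ⟨w⁻¹ * g, by rw [cj_cj, ← e, h.lz]; group⟩)
  have cH := (ua 0).mem (by simp) c4
  have nU : ∀ y, UC H 1 y → ¬ IsConj y c := fun y hy hc => by
    obtain ⟨r, rfl⟩ := isConj_iff.mp hc
    exact hg ((hy.of_conj (by simp) cH).mem' hz (by simp) c3)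
  obtain ⟨v, hv, vQ⟩ := h.into_Q hM hn cH c2
  have k1 := cj_comm c3 v
  rw [← cj_cj v g] at k1
  have k2 := hp.odd z2 hz (by simp) (g1 := 1) (g2 := v * g) (c := v * c * v⁻¹) (by simp) (by simp)
    (one_mem _) (fun e => hg ((H.mul_mem_cancel_left hv).1 e)) (by simpa using (h.st.cq vQ).symm) k1.symm
  rw [one_mul, inv_one, mul_one, cj_cj, ← cj_mul] at k2
  have k3 : IsConj c (g * z * g⁻¹ * c) := by
    obtain ⟨x, hx, e⟩ : ∃ x ∈ Q, x * (v * c * v⁻¹) ≠ v * c * v⁻¹ * x := by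
      by_contra hcon
      push Not at hcon
      rcases h.st.pre.cent _ hcon with e | e
      · exact c1 (conj_eq_one_iff.mp e)
      · exact nU z hz (isConj_iff.mpr ⟨v⁻¹, by rw [← e]; group⟩)
    exact ((isConj_iff.mpr ⟨x * v, by rw [cj_cj, h.es.conj_of_ne vQ hx e, h.st.cq vQ]⟩ : IsConj c _).trans
      k2).trans (isConj_iff.mpr ⟨v⁻¹, by group⟩)
  rcases e with e | e
  · exact nU _ hz ((isConj_iff.mpr ⟨w * g, by rw [cj_cj, e]⟩ : IsConj _ _).trans k3.symm)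
  · refine nU _ (ua 0) ((isConj_iff.mpr ⟨w⁻¹, ?_⟩ : IsConj _ _).trans k3.symm)
    rw [← mul_one (z * _), ← c2, ← mul_assoc (z * _), ← e, cj_mul,
      conj_eq_of_comm (cz_inv (comm_cl c4.symm c3.symm hw))]
    group

end Fn

end CfsgLib.O8R
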